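import Cfsg.Agent.Lib.BG.FixedLine.Groups
import Cfsg.Agent.Lib.BG.FixedLine.Tools
import Cfsg.Agent.Lib.Coprime.Generation

/-!
The automorphisms of `Q` induced by its normalizer, and a quotient form of BG 3.4.
-/

set_option autoImplicit false
set_option linter.style.haveILetI false
set_option linter.unusedSectionVars false

open scoped commutatorElement

namespace CfsgLib.BG.PLengthHall

open CfsgLib.Coprime
open CfsgLib.BG.FixedLine (conj_mem_of_le_normalizer mem_normalizer_of_conj)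

variable {G : Type*} [Group G] [Finite G]

/-- The induced automorphisms. -/
noncomputable def autHom (Q : Subgroup G) : Subgroup.normalizer (Q : Set G) →* MulAut Q :=
  CfsgLib.Coprime.conjAct (le_refl (Subgroup.normalizer (Q : Set G)))

theorem autHom_eq_one_iff {Q : Subgroup G} {g : Subgroup.normalizer (Q : Set G)} :
    autHom Q g = 1 ↔ (g : G) ∈ Subgroup.centralizer (Q : Set G) := by
  constructor
  · intro h u hu
    have := congrArg Subtype.val (DFunLike.congr_fun h ⟨u, hu⟩)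
    rw [autHom, CfsgLib.Coprime.coe_conjAct, MulAut.one_apply] at this
    exact (mul_inv_eq_iff_eq_mul.1 this).symm
  · intro h
    refine MulEquiv.ext fun u => Subtype.ext ?_
    rw [autHom, CfsgLib.Coprime.coe_conjAct, MulAut.one_apply]
    exact mul_inv_eq_iff_eq_mul.2 (h u u.2).symm

/-- A `q`-group `Q`, `p`-group `S`, element `x` fixed-point-free on `Q/N`: the action of `[S, x]` is
trivial on `Q/N`. -/
theorem commutator_trivial_mod {p q r : ℕ} [Fact p.Prime] [Fact q.Prime] (hp2 : p ≠ 2) (hr : r.Prime)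
    (hpq : p ≠ q) (hpr : p ≠ r) (hqr : q ≠ r) {Q S N : Subgroup G} {x : G} (hQ : IsPGroup q Q)
    (hS : IsPGroup p S) (hxr : x ^ r = 1) (hNQ : N ≤ Q) (hQN : Q ≤ Subgroup.normalizer (N : Set G))
    (hSN : S ≤ Subgroup.normalizer (N : Set G)) (hxN : x ∈ Subgroup.normalizer (N : Set G))
    (hSQ : S ≤ Subgroup.normalizer (Q : Set G)) (hxQ : x ∈ Subgroup.normalizer (Q : Set G))
    (hxS : x ∈ Subgroup.normalizer (S : Set G)) (hexp : ∀ u ∈ Q, u ^ q ∈ N)
    (hder : ∀ u ∈ Q, ∀ v ∈ Q, ⁅u, v⁆ ∈ N) (hfix : ∀ u ∈ Q, x * u = u * x → u ∈ N) :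
    ∀ s ∈ S, ∀ u ∈ Q, ⁅⁅x, s⁆, u⁆ ∈ N := by
  set M := Subgroup.normalizer (N : Set G) with hM
  haveI : (N.subgroupOf M).Normal := Subgroup.normal_in_normalizer
  set π := QuotientGroup.mk' (N.subgroupOf M) with hπ
  have hπ1 : ∀ g : M, π g = 1 ↔ (g : G) ∈ N := fun g => by
    rw [hπ, QuotientGroup.mk'_apply, QuotientGroup.eq_one_iff, Subgroup.mem_subgroupOf]
  have hq : q.Prime := Fact.out
  have hp : p.Prime := Fact.out
  have hV : Cfsg.IsElementaryAbelian q ((Q.subgroupOf M).map π) := by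
    refine ⟨⟨⟨?_⟩⟩, ?_⟩
    · rintro ⟨_, u, hu, rfl⟩ ⟨_, v, hv, rfl⟩
      refine Subtype.ext (commutatorElement_eq_one_iff_mul_comm.1 ?_)
      rw [← map_commutatorElement, hπ1]
      exact hder _ hu _ hv
    · rintro _ ⟨u, hu, rfl⟩
      rw [← map_pow, hπ1]
      exact hexp _ hu
  have hx' : (⟨x, hxN⟩ : M) ^ r = 1 := Subtype.ext hxr
  have hXQ : Subgroup.zpowers (⟨x, hxN⟩ : M) ≤ Subgroup.normalizer (Q.subgroupOf M : Set M) :=
    CfsgLib.BG.FixedLine.zpowers_le_normalizer fun u hu => conj_mem_of_le_normalizer hxQ _ hu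
  have hcop : (Nat.card (Subgroup.zpowers (⟨x, hxN⟩ : M))).Coprime (Nat.card (Q.subgroupOf M)) :=
    CfsgLib.BG.FixedLine.coprime_zpowers hq hr hqr (hQ.of_equiv (Subgroup.subgroupOfEquivOfLe hQN).symm) hx'
  have hC : (Q.subgroupOf M).map π ⊓ Subgroup.centralizer ({π ⟨x, hxN⟩} : Set (M ⧸ N.subgroupOf M)) = ⊥ := by
    rw [eq_bot_iff]
    intro w hw
    have hw' : w ∈ (Q.subgroupOf M ⊓ Subgroup.centralizer (Subgroup.zpowers (⟨x, hxN⟩ : M) : Set M)).map π := by
      rw [map_inf_centralizer hXQ hcop (Or.inl inferInstance) π, MonoidHom.map_zpowers]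
      refine ⟨hw.1, fun g hg => ?_⟩
      obtain ⟨i, rfl⟩ := Subgroup.mem_zpowers_iff.1 hg
      exact ((show Commute (π ⟨x, hxN⟩) w from hw.2 _ rfl).zpow_left i).eq
    obtain ⟨u, ⟨huQ, huC⟩, rfl⟩ := hw'
    rw [Subgroup.mem_bot, hπ1]
    exact hfix _ huQ (congrArg Subtype.val (huC _ (Subgroup.mem_zpowers _)))
  rcases CfsgLib.BG.FixedLine.fpf_groups (V := (Q.subgroupOf M).map π) (Q := (S.subgroupOf M).map π)
      (x := π ⟨x, hxN⟩) hq hp hr hpq.symm hqr hpr hV
      ((hS.of_equiv (Subgroup.subgroupOfEquivOfLe hSN).symm).map π) (by rw [← map_pow, hx', map_one])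
      (mem_normalizer_of_conj (by
        rintro _ ⟨s, hs, rfl⟩
        exact ⟨_, conj_mem_of_le_normalizer hxS _ hs, by rw [← map_inv, ← map_mul, ← map_mul]⟩))
      (mem_normalizer_of_conj (by
        rintro _ ⟨u, hu, rfl⟩
        exact ⟨_, conj_mem_of_le_normalizer hxQ _ hu, by rw [← map_inv, ← map_mul, ← map_mul]⟩))
      (by
        rintro _ ⟨s, hs, rfl⟩
        exact mem_normalizer_of_conj (by
          rintro _ ⟨u, hu, rfl⟩
          exact ⟨_, conj_mem_of_le_normalizer (hSQ hs) _ hu, by rw [← map_inv, ← map_mul, ← map_mul]⟩))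
      hC with h | h
  · intro s hs u hu
    have h1 := h (π ⟨s, hSN hs⟩) ⟨_, hs, rfl⟩ (π ⟨u, hQN hu⟩) ⟨_, hu, rfl⟩
    have h2 : π ⁅⁅(⟨x, hxN⟩ : M), (⟨s, hSN hs⟩ : M)⁆, (⟨u, hQN hu⟩ : M)⁆ = 1 := by
      rw [map_commutatorElement, map_commutatorElement, commutatorElement_eq_one_iff_mul_comm]
      exact h1.symm
    exact (hπ1 _).1 h2
  · exact absurd h.1.1 hp2

end CfsgLib.BG.PLengthHall
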