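import Cfsg.Agent.Lib.BG.FixedLine.Setup
import Cfsg.Agent.Lib.Blocks.PrincipalPSolvable
import Cfsg.Agent.Lib.PSolvable.Core
import Cfsg.Agent.Lib.Fitting.Basic
import Cfsg.Prelude.Def_Local

/-!
`p`-length one and coprime actions: tools for BG 3.6.
-/

set_option autoImplicit false
set_option linter.style.haveILetI false
set_option linter.unusedSectionVars false

open scoped commutatorElement

namespace CfsgLib.BG.PLengthHall

open CfsgLib.Coprime
open CfsgLib.BG.FixedLine (conj_mem_of_le_normalizer mem_normalizer_of_conj)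

universe u

variable {p : ℕ} [hp : Fact p.Prime]

/-- A normal subgroup of `p'`-index containing... : a normal Sylow subgroup gives `p`-length one. -/
theorem pLengthLE_one_of_not_dvd {K : Type u} [Group K] [Finite K] (h : ¬ p ∣ (Cfsg.pCore p K).index) :
    Cfsg.PLengthLE p 1 K := by
  haveI := CfsgLib.Fitting.pCore_normal (G := K) p
  haveI := CfsgLib.Transfer.pPrimeCore_normal p K
  refine (CfsgLib.Blocks.pLengthLE_one_iff ((CfsgLib.Fitting.pCore_isPGroup p).toSylow h)).2 ?_
  exact Subgroup.Normal.map (show (Cfsg.pCore p K).Normal by infer_instance) _ (QuotientGroup.mk'_surjective _)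

theorem not_dvd_index_pCore {K : Type u} [Group K] [Finite K] (hL : Cfsg.PLengthLE p 1 K)
    (hO : Cfsg.pPrimeCore p K = ⊥) : ¬ p ∣ (Cfsg.pCore p K).index := by
  obtain ⟨P⟩ : Nonempty (Sylow p K) := inferInstance
  haveI := CfsgLib.Transfer.pPrimeCore_normal p K
  have h := (CfsgLib.Blocks.pLengthLE_one_iff P).1 hL
  have hinj : Function.Injective (QuotientGroup.mk' (Cfsg.pPrimeCore p K)) := by
    rw [← MonoidHom.ker_eq_bot_iff, QuotientGroup.ker_mk', hO]
  have hP : (P : Subgroup K).Normal := by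
    rw [← Subgroup.comap_map_eq_self_of_injective hinj (P : Subgroup K)]
    exact h.comap _
  have hle := CfsgLib.Fitting.le_pCore hP P.2
  exact fun hd => P.not_dvd_index (hd.trans (Subgroup.index_dvd_of_le hle))

theorem pLengthLE_one_of_surjective {K Q : Type u} [Group K] [Finite K] [Group Q] (f : K →* Q)
    (hf : Function.Surjective f) (hker : (Nat.card f.ker).Coprime p) (hQ : Cfsg.PLengthLE p 1 Q) :
    Cfsg.PLengthLE p 1 K := by
  haveI : Finite Q := Finite.of_surjective f hf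
  haveI := CfsgLib.Transfer.pPrimeCore_normal p K
  haveI := CfsgLib.Transfer.pPrimeCore_normal p Q
  obtain ⟨P⟩ : Nonempty (Sylow p K) := inferInstance
  have hfP := (CfsgLib.Blocks.pLengthLE_one_iff (P.mapSurjective hf)).1 hQ
  rw [Sylow.coe_mapSurjective, Subgroup.map_map] at hfP
  set g := (QuotientGroup.mk' (Cfsg.pPrimeCore p Q)).comp f with hg
  have hgs : Function.Surjective g := (QuotientGroup.mk'_surjective _).comp hf
  have hkg : g.ker = Cfsg.pPrimeCore p K := by
    refine le_antisymm (CfsgLib.Transfer.le_pPrimeCore (MonoidHom.normal_ker g) ?_) fun x hx => ?_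
    · rw [hg, ← MonoidHom.comap_ker, QuotientGroup.ker_mk',
        CfsgLib.PSolvable.card_comap_of_surjective hf]
      exact Nat.Coprime.mul_left hker (CfsgLib.Transfer.pPrimeCore_coprime p)
    · rw [MonoidHom.mem_ker, hg, MonoidHom.comp_apply, QuotientGroup.mk'_apply, QuotientGroup.eq_one_iff]
      exact CfsgLib.Transfer.le_pPrimeCore ((CfsgLib.Transfer.pPrimeCore_normal p K).map f hf)
        (Nat.Coprime.coprime_dvd_left (Subgroup.card_map_dvd _ f) (CfsgLib.Transfer.pPrimeCore_coprime p))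
        (Subgroup.mem_map_of_mem f hx)
  refine (CfsgLib.Blocks.pLengthLE_one_iff P).2 ?_
  have h1 : ((P : Subgroup K).map g).comap g = (P : Subgroup K) ⊔ Cfsg.pPrimeCore p K := by
    rw [Subgroup.comap_map_eq, hkg]
  have h2 : ((P : Subgroup K) ⊔ Cfsg.pPrimeCore p K).Normal := h1 ▸ hfP.comap g
  have h3 := h2.map (QuotientGroup.mk' (Cfsg.pPrimeCore p K)) (QuotientGroup.mk'_surjective _)
  have h4 : ((P : Subgroup K) ⊔ Cfsg.pPrimeCore p K).map (QuotientGroup.mk' (Cfsg.pPrimeCore p K)) =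
      (P : Subgroup K).map (QuotientGroup.mk' (Cfsg.pPrimeCore p K)) := by
    rw [Subgroup.map_sup, (Subgroup.map_eq_bot_iff _).2 (QuotientGroup.ker_mk' _).ge, sup_bot_eq]
  exact h4 ▸ h3

/-! ### Coprime actions -/

variable {G : Type u} [Group G] [Finite G]

/-- A `p`-subgroup of a Z-group is cyclic. -/
theorem isCyclic_of_le_zGroup {Z P : Subgroup G} (hZ : IsZGroup Z) (hPZ : P ≤ Z) (hP : IsPGroup p P) :
    IsCyclic P := by
  haveI := hZ
  haveI : IsZGroup P := IsZGroup.of_injective (Subgroup.inclusion_injective hPZ)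
  haveI := hP.isNilpotent
  infer_instance

/-- In `H = [H, R]` a point fixed modulo an `R`-invariant subgroup above `H'` lies in it. -/
theorem mem_of_fixed_mod {H R W : Subgroup G} (hRH : R ≤ Subgroup.normalizer (H : Set G))
    (hcop : (Nat.card H).Coprime (Nat.card R)) (hcomm : ⁅H, R⁆ = H) (hWH : W ≤ H)
    (hRW : R ≤ Subgroup.normalizer (W : Set G)) (hder : ⁅H, H⁆ ≤ W) {h : G} (hh : h ∈ H)
    (hfix : ∀ g ∈ R, ⁅h, g⁆ ∈ W) : h ∈ W := by
  classical
  haveI := Fintype.ofFinite R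
  have hm : ∀ (g : R) (u : H), (g : G) * (u : G) * (g : G)⁻¹ ∈ H := fun g u =>
    conj_mem_of_le_normalizer (hRH g.2) _ u.2
  let c : R → (H →* H) := fun g =>
    { toFun := fun u => ⟨(g : G) * (u : G) * (g : G)⁻¹, hm g u⟩
      map_one' := Subtype.ext (by simp)
      map_mul' := fun u v => Subtype.ext (by simp [mul_assoc]) }
  let τ : H →* Abelianization H := ∏ g : R, (Abelianization.of).comp (c g)
  have hτ : ∀ u : H, τ u = ∏ g : R, Abelianization.of (c g u) := fun u => by
    simp only [τ, MonoidHom.finsetProd_apply, MonoidHom.comp_apply]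
  have hτR : ∀ (g : R) (u : H), τ (c g u) = τ u := by
    intro g u
    rw [hτ, hτ]
    refine Fintype.prod_equiv (Equiv.mulRight g) _ _ fun k => ?_
    congr 1
    exact Subtype.ext (by simp [c, mul_assoc])
  have hker : ⁅H, R⁆ ≤ τ.ker.map H.subtype := by
    refine Subgroup.commutator_le.2 fun u hu g hg => ?_
    have hmem : ⁅u, g⁆ ∈ H := hcomm ▸ Subgroup.commutator_mem_commutator hu hg
    refine ⟨⟨_, hmem⟩, ?_, rfl⟩
    have e : (⟨⁅u, g⁆, hmem⟩ : H) = ⟨u, hu⟩ * c ⟨g, hg⟩ (⟨u, hu⟩ : H)⁻¹ :=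
      Subtype.ext (by simp [c, commutatorElement_def, mul_assoc])
    show τ ⟨⁅u, g⁆, hmem⟩ = 1
    rw [e, map_mul, hτR, map_inv, mul_inv_cancel]
  obtain ⟨h', hh', hhe⟩ := (hcomm.ge.trans hker) hh
  have h1 : τ ⟨h, hh⟩ = 1 := by
    have : h' = ⟨h, hh⟩ := Subtype.ext hhe
    exact this ▸ hh'
  set W' := (W.subgroupOf H).map (Abelianization.of (G := H)) with hW'
  have hdiff : ∀ g : R, (Abelianization.of (⟨h, hh⟩ : H))⁻¹ * Abelianization.of (c g ⟨h, hh⟩) ∈ W' := by
    intro g
    rw [← map_inv, ← map_mul]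
    refine Subgroup.mem_map_of_mem _ ?_
    rw [Subgroup.mem_subgroupOf]
    have hw := W.inv_mem (hfix g g.2)
    have hconj : h⁻¹ * ⁅h, (g : G)⁆⁻¹ * h ∈ W := by
      have hmemH : ⁅h, (g : G)⁆⁻¹ ∈ H := hWH hw
      have hd : ⁅h⁻¹, ⁅h, (g : G)⁆⁻¹⁆ ∈ W :=
        hder (Subgroup.commutator_mem_commutator (H.inv_mem hh) hmemH)
      have := W.mul_mem hd hw
      convert this using 1
      simp only [commutatorElement_def]; group
    convert hconj using 1
    simp [c, commutatorElement_def, mul_assoc]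
  have h2 : (Abelianization.of (⟨h, hh⟩ : H)) ^ Nat.card R ∈ W' := by
    have hprod := Subgroup.prod_mem W' (t := (Finset.univ : Finset R)) (fun g _ => hdiff g)
    rw [Finset.prod_mul_distrib, ← hτ, h1, mul_one, Finset.prod_const, Finset.card_univ,
      ← Nat.card_eq_fintype_card, inv_pow, inv_mem_iff] at hprod
    exact hprod
  have h3 : Abelianization.of (⟨h, hh⟩ : H) ∈ W' := by
    set a := Abelianization.of (⟨h, hh⟩ : H)
    have hd : orderOf a ∣ Nat.card H :=
      (orderOf_map_dvd _ _).trans (orderOf_dvd_natCard _)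
    obtain ⟨m, hm⟩ := exists_pow_eq_self_of_coprime
      (Nat.Coprime.symm (Nat.Coprime.coprime_dvd_left hd hcop) : (Nat.card R).Coprime (orderOf a))
    rw [← hm]
    exact pow_mem h2 m
  obtain ⟨w, hw, hwe⟩ := h3
  have h4 : w⁻¹ * ⟨h, hh⟩ ∈ commutator H := by
    rw [← Abelianization.ker_of, MonoidHom.mem_ker, map_mul, map_inv, hwe, inv_mul_cancel]
  have h5 : ((w⁻¹ * ⟨h, hh⟩ : H) : G) ∈ W := by
    refine hder ?_
    have := Subgroup.mem_map_of_mem H.subtype h4
    rwa [commutator_def, Subgroup.map_commutator, ← MonoidHom.range_eq_map, Subgroup.range_subtype] at this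
  have := W.mul_mem hw h5
  simpa using this

/-- A Z-group generated by its commutators with a coprime operator group is abelian. -/
theorem commutator_eq_bot_of_zGroup {Y R : Subgroup G} (hRY : R ≤ Subgroup.normalizer (Y : Set G))
    (hY : IsZGroup Y) (hcomm : ⁅Y, R⁆ = Y) : ⁅Y, Y⁆ = ⊥ := by
  haveI := hY
  set C := ⁅Y, Y⁆ with hC
  have hCY : C ≤ Y := commutator_le_left_of_le_normalizer Subgroup.le_normalizer
  have hCc : IsCyclic C := by
    have hmap : (commutator Y).map Y.subtype = C := by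
      rw [commutator_def, Subgroup.map_commutator, ← MonoidHom.range_eq_map, Subgroup.range_subtype]
    haveI := IsZGroup.isCyclic_commutator (G := Y)
    rw [← hmap]
    exact isCyclic_of_surjective _
      ((commutator Y).equivMapOfInjective Y.subtype Y.subtype_injective).surjective
  obtain ⟨c₀, hc₀⟩ := hCc.exists_generator
  have hYC : Y ≤ Subgroup.normalizer (C : Set G) :=
    le_normalizer_commutator Subgroup.le_normalizer Subgroup.le_normalizer
  have hRC : R ≤ Subgroup.normalizer (C : Set G) := le_normalizer_commutator hRY hRY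
  let N := Subgroup.normalizer (C : Set G)
  have hpow : ∀ g : G, g ∈ N → ∃ i : ℤ, g * (c₀ : G) * g⁻¹ = (c₀ : G) ^ i := by
    intro g hg
    obtain ⟨i, hi⟩ := Subgroup.mem_zpowers_iff.1 (hc₀ ⟨_, conj_mem_of_le_normalizer hg _ c₀.2⟩)
    exact ⟨i, by simpa using (congrArg Subtype.val hi).symm⟩
  have hcommute : ∀ g ∈ N, ∀ k ∈ N, ⁅g, k⁆ * (c₀ : G) * ⁅g, k⁆⁻¹ = c₀ := by
    intro g hg k hk
    obtain ⟨i, hi⟩ := hpow g hg
    obtain ⟨j, hj⟩ := hpow k hk
    have hzp : ∀ (g : G) (n : ℤ), g * (c₀ : G) ^ n * g⁻¹ = (g * (c₀ : G) * g⁻¹) ^ n := fun g n => by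
      rw [← MulAut.conj_apply, map_zpow, MulAut.conj_apply]
    have e1 : (g * k) * (c₀ : G) * (g * k)⁻¹ = (c₀ : G) ^ (i * j) := by
      rw [show (g * k) * (c₀ : G) * (g * k)⁻¹ = g * (k * (c₀ : G) * k⁻¹) * g⁻¹ by group, hj, hzp, hi,
        ← zpow_mul]
    have e2 : (k * g) * (c₀ : G) * (k * g)⁻¹ = (c₀ : G) ^ (i * j) := by
      rw [show (k * g) * (c₀ : G) * (k * g)⁻¹ = k * (g * (c₀ : G) * g⁻¹) * k⁻¹ by group, hi, hzp, hj,
        ← zpow_mul, mul_comm]
    calc ⁅g, k⁆ * (c₀ : G) * ⁅g, k⁆⁻¹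
        = (g * k) * ((k * g)⁻¹ * (c₀ : G) * (k * g)) * (g * k)⁻¹ := by
          simp only [commutatorElement_def]; group
      _ = (g * k) * ((k * g)⁻¹ * (c₀ : G) * (k * g)) * (g * k)⁻¹ := rfl
      _ = c₀ := by
        obtain ⟨n, hn⟩ := hpow _ (N.inv_mem (N.mul_mem hk hg))
        rw [inv_inv] at hn
        rw [hn, hzp, e1, ← e2, ← hzp, ← hn]
        group
  have hYcen : Y ≤ Subgroup.centralizer (C : Set G) := by
    conv_lhs => rw [← hcomm]
    refine Subgroup.commutator_le.2 fun y hy g hg c hc => ?_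
    obtain ⟨n, hn⟩ := Subgroup.mem_zpowers_iff.1 (hc₀ ⟨c, hc⟩)
    have hn' : (c₀ : G) ^ n = c := by simpa using congrArg Subtype.val hn
    have h1 : Commute (c₀ : G) ⁅y, g⁆ := (mul_inv_eq_iff_eq_mul.1 (hcommute y (hYC hy) g (hRC hg))).symm
    rw [← hn']
    exact (h1.zpow_left n).eq
  haveI : Group.IsNilpotent Y := by
    rw [Subgroup.nilpotent_iff_lowerCentralSeries]
    refine ⟨2, ?_⟩
    apply Subgroup.map_injective Y.subtype_injective
    simp only [Subgroup.lowerCentralSeries_succ, Subgroup.lowerCentralSeries_zero, Subgroup.map_commutator,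
      Subgroup.map_bot, ← MonoidHom.range_eq_map, Subgroup.range_subtype]
    rw [Subgroup.commutator_eq_bot_iff_le_centralizer, Subgroup.le_centralizer_iff]
    exact hYcen
  haveI : IsCyclic Y := inferInstance
  letI := IsCyclic.commGroup (α := Y)
  rw [hC, Subgroup.commutator_eq_bot_iff_le_centralizer]
  exact fun a ha b hb => congrArg Subtype.val (mul_comm (⟨b, hb⟩ : Y) ⟨a, ha⟩)

end CfsgLib.BG.PLengthHall
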