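import Cfsg.Agent.Lib.BG.PLengthHall.Common
import Cfsg.Agent.Lib.BG.FixedLine.Apply

/-!
BG 3.6, reduced situation, `R ≠ R₀`.
-/

set_option autoImplicit false
set_option linter.style.haveILetI false
set_option linter.unusedSectionVars false

open scoped commutatorElement
open scoped Pointwise

namespace CfsgLib.BG.PLengthHall

open CfsgLib.Coprime
open CfsgLib.BG.FixedLine (conj_mem_of_le_normalizer mem_normalizer_of_conj)

universe u

variable {G : Type u} [Group G] [Finite G]

namespace Setting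

variable {p : ℕ} {H R R₀ V : Subgroup G} (h : Setting p H R R₀ V)

include h

theorem le_M_of_pLength {M A : Subgroup G}
    (hmax : ∀ A : Subgroup G, A ≤ H → H ≤ Subgroup.normalizer (A : Set G) → ¬ p ∣ V.relIndex (V ⊔ A) → A ≤ M)
    (hAH : A ≤ H) (hHA : H ≤ Subgroup.normalizer (A : Set G)) (hA : Cfsg.PLengthLE p 1 ↥A) : A ≤ M := by
  haveI := Fact.mk h.hp
  obtain ⟨W, hWp, hWA, hHW, hW⟩ := h.exists_pgroup_above le_rfl h.hVH hAH hHA hA
  have hWV := h.hVmax W (hWA.trans hAH) hHW hWp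
  refine hmax A hAH hHA ?_
  rw [relIndex_sup_of_le_normalizer (hAH.trans h.hHV)]
  obtain ⟨P⟩ : Nonempty (Sylow p A) := inferInstance
  intro hd
  refine P.not_dvd_index (hd.trans ?_)
  rw [Subgroup.relIndex]
  exact Subgroup.index_dvd_of_le fun w hw =>
    hWV (hW _ (Subgroup.map_subtype_le _) (P.2.map A.subtype) ⟨w, hw, rfl⟩)

theorem hyp_conj {x g : G} (hx : R₀ = Subgroup.zpowers x) (hg : g ∈ R) :
    Hyp H (Subgroup.zpowers (g * x * g⁻¹)) (Subgroup.zpowers (g * x * g⁻¹)) := by
  have hxR : x ∈ R := h.hR₀ (hx ▸ Subgroup.mem_zpowers x)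
  have hle : Subgroup.zpowers (g * x * g⁻¹) ≤ R := Subgroup.zpowers_le.2 (mul_mem (mul_mem hg hxR) (inv_mem hg))
  refine ⟨h.hodd, h.hsol, hle.trans h.hRH, h.hcop.coprime_dvd_right (Subgroup.card_dvd_of_le hle), le_rfl, ?_, ?_⟩
  · rw [Nat.card_zpowers, ← MulAut.conj_apply, MulEquiv.orderOf_eq, ← Nat.card_zpowers, ← hx]
    exact h.hR₀p
  · haveI := h.hZ
    have hgH := h.hRH hg
    let f : ↥(H ⊓ Subgroup.centralizer ((Subgroup.zpowers (g * x * g⁻¹) : Subgroup G) : Set G)) →*
        ↥(H ⊓ Subgroup.centralizer (R₀ : Set G)) :=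
      { toFun := fun w => ⟨g⁻¹ * (w : G) * g,
          by simpa using conj_mem_of_le_normalizer (inv_mem hgH) _ w.2.1, by
            intro y hy
            rw [hx] at hy
            obtain ⟨i, rfl⟩ := Subgroup.mem_zpowers_iff.1 hy
            have hc : Commute x (g⁻¹ * (w : G) * g) := by
              have := w.2.2 (g * x * g⁻¹) (Subgroup.mem_zpowers _)
              calc x * (g⁻¹ * (w : G) * g) = g⁻¹ * ((g * x * g⁻¹) * (w : G)) * g := by group
                _ = g⁻¹ * ((w : G) * (g * x * g⁻¹)) * g := by rw [this]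
                _ = _ := by group
            exact (hc.zpow_left i).eq⟩
        map_one' := Subtype.ext (by simp)
        map_mul' := fun a b => Subtype.ext
          (show g⁻¹ * ((a : G) * (b : G)) * g = g⁻¹ * (a : G) * g * (g⁻¹ * (b : G) * g) by group) }
    exact IsZGroup.of_injective (f := f) fun a b e => Subtype.ext
      (mul_left_cancel (mul_right_cancel (show g⁻¹ * (a : G) * g = g⁻¹ * (b : G) * g from congrArg Subtype.val e)))

theorem pair_centralizes_of_ne (hne : R ≠ R₀) {q : ℕ} {Q S : Subgroup G} (hP : Pair p q H R V Q S) :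
    ∀ s ∈ S, ∀ u ∈ Q, s * u = u * s := by
  haveI := Fact.mk h.hp
  haveI := Fact.mk hP.hq
  intro s₀ hs₀ u₀ hu₀
  by_cases hQ1 : Q = ⊥
  · rw [hQ1, Subgroup.mem_bot] at hu₀
    rw [hu₀, mul_one, one_mul]
  suffices hSC : S ≤ Subgroup.centralizer (Q : Set G) from (hSC hs₀ u₀ hu₀).symm
  have hqH : q ∣ Nat.card H := by
    obtain ⟨k, hk⟩ := hP.hQ.exists_card_eq
    rcases Nat.eq_zero_or_pos k with rfl | hk0
    · exact absurd (Subgroup.card_eq_one.1 (by rw [hk, pow_zero])) hQ1
    · exact ((hk ▸ dvd_pow_self q hk0.ne' : q ∣ Nat.card Q)).trans (Subgroup.card_dvd_of_le hP.hQH)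
  have hq2 : q ≠ 2 := fun e => Nat.not_even_iff_odd.2 h.hodd
    (even_iff_two_dvd.2 (e ▸ hqH.trans H.card_subgroup_dvd_card))
  obtain ⟨hr2, hrp, hrq⟩ := h.prime_R₀_facts
  obtain ⟨x, hxR₀, hx, hxr⟩ := exists_gen_of_prime h.hR₀p
  have hxR : x ∈ R := h.hR₀ hxR₀
  have hlt : R₀ < R := lt_of_le_of_ne h.hR₀ hne.symm
  obtain ⟨M, hVM, hMH, hHM, hRM, hMidx, hmax⟩ := h.exists_M
  -- the normal closure of `R₀` in `R`
  set X : Set G := {y | ∃ g ∈ R, y = g * x * g⁻¹} with hX
  set R1 := Subgroup.closure X with hR1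
  have hR1R : R1 ≤ R := (Subgroup.closure_le _).2 fun y ⟨g, hg, e⟩ => e ▸ mul_mem (mul_mem hg hxR) (inv_mem hg)
  have hconjmem : ∀ g ∈ R, g * x * g⁻¹ ∈ R1 := fun g hg => Subgroup.subset_closure ⟨g, hg, rfl⟩
  have hR₀R1 : R₀ ≤ R1 := hx ▸ Subgroup.zpowers_le.2 (by simpa using hconjmem 1 (one_mem R))
  have hRR1 : R ≤ Subgroup.normalizer (R1 : Set G) := by
    intro k hk
    refine mem_normalizer_of_conj fun y hy => ?_
    induction hy using Subgroup.closure_induction with
    | mem y hy =>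
      obtain ⟨g, hg, rfl⟩ := hy
      have := hconjmem (k * g) (mul_mem hk hg)
      convert this using 1; group
    | one => simp
    | mul a b _ _ ha hb => convert mul_mem ha hb using 1; group
    | inv a _ ha => convert inv_mem ha using 1; group
  have hR1N : ∀ {A : Subgroup G}, R ≤ Subgroup.normalizer (A : Set G) → R1 ≤ Subgroup.normalizer (A : Set G) :=
    fun hA => hR1R.trans hA
  -- `R1` centralizes `H` modulo `M`
  have hgM : ∀ g ∈ R, ⁅H, Subgroup.zpowers (g * x * g⁻¹)⁆ ≤ M := by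
    intro g hg
    have hh := h.hyp_conj hx hg
    refine h.le_M_of_pLength hmax (commutator_le_left_of_le_normalizer hh.hRH)
      (Subgroup.normalizer_commutator_ge_left _ _) (h.hIH H _ _ le_rfl (hh.hR₀.trans ?_) ?_ hh)
    · exact Subgroup.zpowers_le.2 (hR1R (hconjmem g hg))
    · have e : Nat.card ↥(Subgroup.zpowers (g * x * g⁻¹)) = Nat.card R₀ := by
        rw [hx, Nat.card_zpowers, Nat.card_zpowers, ← MulAut.conj_apply, MulEquiv.orderOf_eq]
      rw [e]
      exact Nat.add_lt_add_left (lt_of_le_of_ne (Nat.le_of_dvd Nat.card_pos (Subgroup.card_dvd_of_le h.hR₀))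
        fun e => hne (Subgroup.eq_of_le_of_card_ge h.hR₀ e.ge).symm) _
  have hHR1 : ⁅H, R1⁆ ≤ M := by
    refine Subgroup.commutator_le.2 fun a ha y hy => ?_
    induction hy using Subgroup.closure_induction with
    | mem y hy =>
      obtain ⟨g, hg, rfl⟩ := hy
      exact hgM g hg (Subgroup.commutator_mem_commutator ha (Subgroup.mem_zpowers _))
    | one => simp
    | mul y z hy _ h1 h2 =>
      rw [show ⁅a, y * z⁆ = ⁅a, y⁆ * (y * ⁅a, z⁆ * y⁻¹) by simp only [commutatorElement_def]; group]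
      exact M.mul_mem h1 (conj_mem_of_le_normalizer (hR1N hRM hy) _ h2)
    | inv y hy h1 =>
      rw [show ⁅a, y⁻¹⁆ = y⁻¹ * ⁅a, y⁆⁻¹ * y⁻¹⁻¹ by simp only [commutatorElement_def]; group]
      exact conj_mem_of_le_normalizer (inv_mem (hR1N hRM hy)) _ (M.inv_mem h1)
  -- `H/M` is an abelian group
  have hder : ⁅H, H⁆ ≤ M := by
    have hsplit : ⁅H, R₀⁆ ⊔ (H ⊓ Subgroup.centralizer (R₀ : Set G)) = H :=
      commutator_sup_centralizer (h.hR₀.trans h.hRH)
        (h.hcop.coprime_dvd_right (Subgroup.card_dvd_of_le h.hR₀)).symm (Or.inr h.hsol)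
    have hHC : H ≤ M ⊔ (H ⊓ Subgroup.centralizer (R₀ : Set G)) :=
      hsplit.symm.le.trans (sup_le_sup_right ((Subgroup.commutator_mono le_rfl hR₀R1).trans hHR1) _)
    set N := Subgroup.normalizer (M : Set G)
    haveI : (M.subgroupOf N).Normal := Subgroup.normal_in_normalizer
    set f := QuotientGroup.mk' (M.subgroupOf N)
    set H' := H.subgroupOf N
    set R' := R.subgroupOf N
    set C' := (H ⊓ Subgroup.centralizer (R₀ : Set G)).subgroupOf N
    have hCH : C' ≤ H' := fun w hw => hw.1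
    have hYC : H'.map f = C'.map f := by
      refine le_antisymm ?_ (Subgroup.map_mono hCH)
      rintro _ ⟨w, hw, rfl⟩
      have h1 : (w : G) ∈ ((M ⊔ (H ⊓ Subgroup.centralizer (R₀ : Set G)) : Subgroup G) : Set G) := hHC hw
      rw [Subgroup.coe_mul_of_right_le_normalizer_left _ _ (inf_le_left.trans hHM), Set.mem_mul] at h1
      obtain ⟨m, hm, c, hc, he⟩ := h1
      have hcN : c ∈ N := hHM hc.1
      have hmN : m ∈ N := Subgroup.le_normalizer hm
      refine ⟨⟨c, hcN⟩, hc, ?_⟩
      have hw' : w = ⟨m, hmN⟩ * ⟨c, hcN⟩ := Subtype.ext he.symm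
      rw [hw', map_mul, show f ⟨m, hmN⟩ = 1 from (QuotientGroup.eq_one_iff _).2 hm, one_mul]
    haveI : IsZGroup C' := by
      haveI := h.hZ
      let e : C' ≃* ↥(H ⊓ Subgroup.centralizer (R₀ : Set G)) :=
        Subgroup.subgroupOfEquivOfLe (inf_le_left.trans hHM)
      exact IsZGroup.of_injective (f := e.toMonoidHom) e.injective
    haveI : IsZGroup ↥(C'.map f) := IsZGroup.of_surjective (f.subgroupMap_surjective C')
    have hYR : R'.map f ≤ Subgroup.normalizer ((H'.map f : Subgroup _) : Set (N ⧸ M.subgroupOf N)) := by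
      refine le_trans (Subgroup.map_mono ?_) (Subgroup.le_normalizer_map f)
      exact fun w hw => mem_normalizer_of_conj fun v hv => conj_mem_of_le_normalizer (h.hRH hw) _ hv
    have hsub : ∀ A B : Subgroup G, A ≤ N → B ≤ N →
        ⁅A.subgroupOf N, B.subgroupOf N⁆.map N.subtype = ⁅A, B⁆ := fun A B hA hB => by
      rw [Subgroup.map_commutator, Subgroup.map_subgroupOf_eq_of_le hA, Subgroup.map_subgroupOf_eq_of_le hB]
    have hcommY : ⁅H'.map f, R'.map f⁆ = H'.map f := by
      rw [← Subgroup.map_commutator]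
      congr 1
      refine Subgroup.map_injective N.subtype_injective ?_
      rw [hsub H R hHM hRM, h.hcomm, Subgroup.map_subgroupOf_eq_of_le hHM]
    have hbot := commutator_eq_bot_of_zGroup hYR (hYC ▸ inferInstance) hcommY
    rw [← Subgroup.map_commutator, Subgroup.map_eq_bot_iff, QuotientGroup.ker_mk'] at hbot
    rw [← hsub H H hHM hHM]
    exact (Subgroup.map_mono hbot).trans (by rw [Subgroup.map_subgroupOf_eq_of_le Subgroup.le_normalizer])
  -- the pair
  set T := S ⊓ Subgroup.centralizer (R1 : Set G) with hT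
  have hcopS : (Nat.card R1).Coprime (Nat.card S) :=
    (h.hcop.symm.coprime_dvd_left (Subgroup.card_dvd_of_le hR1R)).coprime_dvd_right (Subgroup.card_dvd_of_le hP.hSH)
  haveI := hP.hS.isNilpotent
  rw [← commutator_sup_centralizer (hR1N hP.hRS) hcopS (Or.inr inferInstance)]
  have hMS : ∀ m ∈ M, m ∈ S → ∀ u ∈ Q, m * u = u * m := fun m hm hmS u hu =>
    h.commute_of_mem_V hP (h.pGroup_le_V hMH hMidx inf_le_left (hP.hS.to_le (inf_le_right : M ⊓ S ≤ S)) ⟨hm, hmS⟩)
      (hP.hSQ hmS) hu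
  refine sup_le (fun w hw u hu => (hMS w ?_ ?_ u hu).symm) ?_
  · exact hHR1 (Subgroup.commutator_mono hP.hSH le_rfl hw)
  · exact commutator_le_left_of_le_normalizer (hR1N hP.hRS) hw
  have hTS : T ≤ S := inf_le_left
  have hRT : R ≤ Subgroup.normalizer (T : Set G) :=
    le_normalizer_inf_of_le hP.hRS (le_normalizer_centralizer hRR1)
  have hQR1 : ⁅Q, R1⁆ ≤ Subgroup.centralizer (T : Set G) := by
    refine Subgroup.commutator_le.2 fun u hu y hy a ha => ?_
    induction hy using Subgroup.closure_induction generalizing u with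
    | mem y hy =>
      obtain ⟨g, hg, rfl⟩ := hy
      obtain ⟨k, hk⟩ := hP.hS ⟨a, ha.1⟩
      have hxg : g * x * g⁻¹ ∈ R := hR1R (hconjmem g hg)
      refine FixedLine.line_centralizes (x := g * x * g⁻¹) (k := k) h.hodd h.hV h.hp2 h.hR₀p hr2 hrp.symm hP.hq hq2
        hP.hqp.symm (hrq q hqH) ?_ ?_ (by simpa using congrArg Subtype.val hk) (h.hRV hxg) (h.hHV (hP.hSH ha.1))
        (h.cyclic_fixed_conj h.hp h.isPGroup_V h.hVH hx hg) hP.hQ (hP.hQH.trans h.hHV) (hP.hRQ hxg)
        (hP.hSQ ha.1) hP.hfaith (h.cyclic_fixed_conj hP.hq hP.hQ hP.hQH hx hg) _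
        (Subgroup.commutator_mem_commutator hu (Subgroup.mem_zpowers _))
      · rw [← MulAut.conj_apply, ← map_pow, hxr, map_one]
      · exact (ha.2 _ (hconjmem g hg)).symm
    | one => simp
    | mul y z hy _ h1 h2 =>
      rw [show ⁅u, y * z⁆ = ⁅u, y⁆ * (y * ⁅u, z⁆ * y⁻¹) by simp only [commutatorElement_def]; group]
      exact ((show Commute a _ from h1 u hu).mul_right (((show Commute a y from (ha.2 y hy).symm).mul_right
        (show Commute a _ from h2 u hu)).mul_right (show Commute a y from (ha.2 y hy).symm).inv_right)).eq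
    | inv y hy h1 =>
      rw [show ⁅u, y⁻¹⁆ = y⁻¹ * ⁅u, y⁆⁻¹ * y by simp only [commutatorElement_def]; group]
      exact ((((show Commute a y from (ha.2 y hy).symm).inv_right).mul_right
        (show Commute a _ from h1 u hu).inv_right).mul_right (show Commute a y from (ha.2 y hy).symm)).eq
  have hcopQ : (Nat.card R1).Coprime (Nat.card Q) :=
    (h.hcop.symm.coprime_dvd_left (Subgroup.card_dvd_of_le hR1R)).coprime_dvd_right (Subgroup.card_dvd_of_le hP.hQH)
  haveI := hP.hQ.isNilpotent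
  have hQsplit := commutator_sup_centralizer (hR1N hP.hRQ) hcopQ (Or.inr inferInstance)
  set C' := Q ⊓ Subgroup.centralizer (R1 : Set G) with hC'
  have hC'c : IsCyclic C' := by
    haveI := h.cyclic_fixed hP.hq hP.hQ hP.hQH hx
    exact isCyclic_of_injective (Subgroup.inclusion (inf_le_inf_left Q (Subgroup.centralizer_le (by
      intro y hy; rw [Set.mem_singleton_iff] at hy; rw [hy]; exact hR₀R1 hxR₀))))
      (Subgroup.inclusion_injective _)
  have hRC' : R ≤ Subgroup.normalizer (C' : Set G) :=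
    le_normalizer_inf_of_le hP.hRQ (le_normalizer_centralizer hRR1)
  have hTC' : T ≤ Subgroup.normalizer (C' : Set G) :=
    le_normalizer_inf_of_le (hTS.trans hP.hSQ) (inf_le_right.trans Subgroup.le_normalizer)
  have hTRT : ⁅T, R⁆ ≤ T := commutator_le_left_of_le_normalizer hRT
  have hTRQ : ⁅T, R⁆ ≤ Subgroup.centralizer (Q : Set G) := by
    rw [Subgroup.le_centralizer_iff, ← hQsplit]
    refine sup_le (hQR1.trans (Subgroup.centralizer_le hTRT)) ?_
    rw [Subgroup.le_centralizer_iff]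
    exact Subgroup.commutator_le.2 fun a ha g hg c hc =>
      (commutator_fix_of_cyclic hC'c (hTC' ha) (hRC' hg) hc).symm
  intro a ha u hu
  set W := M ⊔ ⁅T, R⁆
  have hTH : T ≤ H := hTS.trans hP.hSH
  have haW : a ∈ W := mem_of_fixed_mod h.hRH h.hcop h.hcomm (sup_le hMH (hTRT.trans hTH))
    (le_normalizer_sup_of_le hRM (le_normalizer_commutator hRT Subgroup.le_normalizer))
    (hder.trans le_sup_left) (hTH ha) fun g hg =>
      Subgroup.mem_sup_right (Subgroup.commutator_mem_commutator ha hg)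
  rw [← SetLike.mem_coe, Subgroup.coe_mul_of_right_le_normalizer_left M ⁅T, R⁆ ((hTRT.trans hTH).trans hHM),
    Set.mem_mul] at haW
  obtain ⟨m, hm, c, hc, rfl⟩ := haW
  have hmS : m ∈ S := by simpa using S.mul_mem ha.1 (S.inv_mem (hTS (hTRT hc)))
  exact ((show Commute m u from hMS m hm hmS u hu).mul_left (show Commute c u from (hTRQ hc u hu).symm)).eq.symm

end Setting

end CfsgLib.BG.PLengthHall
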