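import Cfsg.Agent.Lib.BG.PLengthHall.Common
import Cfsg.Agent.S0521

/-!
BG 3.6, reduced situation, `R = R₀`.
-/

set_option autoImplicit false
set_option linter.style.haveILetI false
set_option linter.unusedSectionVars false

open scoped commutatorElement
open scoped Pointwise

namespace CfsgLib.BG.PLengthHall

open CfsgLib.Coprime
open CfsgLib.BG.FixedLine (conj_mem_of_le_normalizer mem_normalizer_of_conj)

universe u

variable {G : Type u} [Group G] [Finite G]

namespace Setting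

variable {p : ℕ} {H R R₀ V : Subgroup G} (h : Setting p H R R₀ V) {q : ℕ} {Q S : Subgroup G}

include h

/-- The statement for a proper piece `V Q' S'`. -/
theorem step_centralizes (hP : Pair p q H R V Q S) {Q' S' : Subgroup G} (hQ' : Q' ≤ Q) (hS' : S' ≤ S)
    (hRQ' : R ≤ Subgroup.normalizer (Q' : Set G)) (hRS' : R ≤ Subgroup.normalizer (S' : Set G))
    (hSQ' : S' ≤ Subgroup.normalizer (Q' : Set G)) (hne : V ⊔ Q' ⊔ S' ≠ H) :
    ⁅S', R⁆ ≤ Subgroup.centralizer (Q' : Set G) := by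
  set L := V ⊔ Q' ⊔ S' with hL
  have hLH : L ≤ H := sup_le (sup_le h.hVH (hQ'.trans hP.hQH)) (hS'.trans hP.hSH)
  have hRL : R ≤ Subgroup.normalizer (L : Set G) := le_normalizer_sup_of_le (le_normalizer_sup_of_le h.hRV hRQ') hRS'
  have hyp : Hyp L R R₀ := ⟨h.hodd, isSolvable_of_le hLH h.hsol, hRL,
    h.hcop.coprime_dvd_left (Subgroup.card_dvd_of_le hLH), h.hR₀, h.hR₀p, by
      haveI := h.hZ
      exact IsZGroup.of_injective (f := Subgroup.inclusion (inf_le_inf_right _ hLH)) (Subgroup.inclusion_injective _)⟩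
  have hlt : Nat.card L < Nat.card H := lt_of_le_of_ne (Nat.le_of_dvd Nat.card_pos (Subgroup.card_dvd_of_le hLH))
    fun e => hne (Subgroup.eq_of_le_of_card_ge hLH e.ge)
  obtain ⟨W, hWp, -, hLW, hW⟩ := h.exists_pgroup_above hLH (le_sup_left.trans le_sup_left)
    (commutator_le_left_of_le_normalizer hRL) (Subgroup.normalizer_commutator_ge_left _ _)
    (h.hIH L R R₀ hLH le_rfl (Nat.add_lt_add_right hlt _) hyp)
  have hc' : ⁅S', R⁆ ≤ W := hW _ (Subgroup.commutator_mono le_sup_right le_rfl)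
    (hP.hS.to_le ((commutator_le_left_of_le_normalizer hRS').trans hS'))
  intro c hc u hu
  have hcS : c ∈ S' := commutator_le_left_of_le_normalizer hRS' hc
  have h1 : ⁅c, u⁆ ∈ Q ⊓ W := ⟨?_, ?_⟩
  · rw [h.Q_inf_pgroup hP hWp, Subgroup.mem_bot, commutatorElement_eq_one_iff_mul_comm] at h1
    exact h1.symm
  · rw [show ⁅c, u⁆ = (c * u * c⁻¹) * u⁻¹ by rw [commutatorElement_def]]
    exact hQ' (Q'.mul_mem (conj_mem_of_le_normalizer (hSQ' hcS) u hu) (Q'.inv_mem hu))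
  · rw [show ⁅c, u⁆ = c * (u * c⁻¹ * u⁻¹) by rw [commutatorElement_def]; group]
    exact W.mul_mem (hc' hc) (conj_mem_of_le_normalizer
      (hLW (Subgroup.mem_sup_left (Subgroup.mem_sup_right hu))) _ (W.inv_mem (hc' hc)))

theorem commutator_centralizes_of_eq (heq : R = R₀) (hP : Pair p q H R V Q S) :
    ⁅S, R⁆ ≤ Subgroup.centralizer (Q : Set G) := by
  haveI := Fact.mk h.hp
  haveI := Fact.mk hP.hq
  by_cases hne : V ⊔ Q ⊔ S ≠ H
  · exact h.step_centralizes hP le_rfl le_rfl hP.hRQ hP.hRS hP.hSQ hne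
  rw [not_ne_iff] at hne
  by_cases hQ1 : Q = ⊥
  · intro c _ u hu
    rw [hQ1, SetLike.mem_coe, Subgroup.mem_bot] at hu
    rw [hu, mul_one, one_mul]
  have hqH : q ∣ Nat.card H := by
    obtain ⟨k, hk⟩ := hP.hQ.exists_card_eq
    rcases Nat.eq_zero_or_pos k with rfl | hk0
    · exact absurd (Subgroup.card_eq_one.1 (by rw [hk, pow_zero])) hQ1
    · exact ((hk ▸ dvd_pow_self q hk0.ne' : q ∣ Nat.card Q)).trans (Subgroup.card_dvd_of_le hP.hQH)
  have hq2 : q ≠ 2 := fun e => Nat.not_even_iff_odd.2 h.hodd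
    (even_iff_two_dvd.2 (e ▸ hqH.trans H.card_subgroup_dvd_card))
  obtain ⟨hr2, hrp, hrq⟩ := h.prime_R₀_facts
  obtain ⟨x, hxR₀, hx, hxr⟩ := exists_gen_of_prime h.hR₀p
  have hRx : R = Subgroup.zpowers x := heq.trans hx
  have hxR : x ∈ R := heq ▸ hxR₀
  set J := layer V H q with hJdef
  have hJ : J = V ⊔ Q := hP.hlayer
  have hHJ : H ≤ Subgroup.normalizer (J : Set G) := h.H_le_normalizer_layer q
  have hJS : J ⊓ S ≤ V := by
    refine le_of_not_dvd_relIndex ((h.layer_le q).trans h.hHV) inf_le_left (hP.hS.to_le inf_le_right) ?_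
    obtain ⟨j, hj⟩ := h.relIndex_layer hP.hq
    rw [hj]
    exact fun hd => hP.hqp ((Nat.prime_dvd_prime_iff_eq h.hp hP.hq).1 (h.hp.dvd_of_dvd_pow hd)).symm
  have hJSc : J ⊓ S ≤ Subgroup.centralizer (Q : Set G) := fun j hj u hu =>
    (h.commute_of_mem_V hP (hJS hj) (hP.hSQ hj.2) hu).symm
  have hmul : ∀ {A : Subgroup G}, A ≤ S → ((J ⊔ A : Subgroup G) : Set G) = (J : Set G) * (A : Set G) :=
    fun hA => Subgroup.coe_mul_of_right_le_normalizer_left J _ ((hA.trans hP.hSH).trans hHJ)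
  have hSRS : ⁅S, R⁆ ≤ S := commutator_le_left_of_le_normalizer hP.hRS
  have hHY : H ≤ J ⊔ ⁅S, R⁆ := by
    rw [← h.hcomm]
    refine Subgroup.commutator_le.2 fun a ha g hg => ?_
    have ha' : a ∈ ((J ⊔ S : Subgroup G) : Set G) := by
      rw [hJ, hne]; exact ha
    rw [hmul le_rfl, Set.mem_mul] at ha'
    obtain ⟨j, hj, s, hs, rfl⟩ := ha'
    rw [show ⁅j * s, g⁆ = j * ⁅s, g⁆ * j⁻¹ * ⁅j, g⁆ by simp only [commutatorElement_def]; group]
    refine mul_mem (mul_mem (mul_mem (Subgroup.mem_sup_left hj) (Subgroup.mem_sup_right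
      (Subgroup.commutator_mem_commutator hs hg))) (inv_mem (Subgroup.mem_sup_left hj))) (Subgroup.mem_sup_left ?_)
    exact commutator_le_left_of_le_normalizer (h.R_le_normalizer_layer q) (Subgroup.commutator_mem_commutator hj hg)
  have hard : HardSetting p q (Nat.card R₀) V Q S x := by
    refine ⟨h.hodd, hP.hq, h.hR₀p, hP.hqp.symm, hrp.symm, hrq q hqH, h.hp2, hq2, hr2, hxr, h.hV, hP.hQ, hP.hS,
      h.hRV hxR, hP.hRQ hxR, hP.hRS hxR, hP.hQH.trans h.hHV, hP.hSH.trans h.hHV, hP.hSQ, hP.hfaith,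
      h.cyclic_fixed h.hp h.isPGroup_V h.hVH hx, h.cyclic_fixed hP.hq hP.hQ hP.hQH hx, ?_, ?_, ?_⟩
    · intro s hs
      have hsY : s ∈ ((J ⊔ ⁅S, R⁆ : Subgroup G) : Set G) := hHY (hP.hSH hs)
      rw [hmul hSRS, Set.mem_mul] at hsY
      obtain ⟨j, hj, c, hc, rfl⟩ := hsY
      have hjS : j ∈ S := by simpa using S.mul_mem hs (S.inv_mem (hSRS hc))
      exact mul_mem (Subgroup.mem_sup_right ⟨hjS, hJSc ⟨hj, hjS⟩⟩) (Subgroup.mem_sup_left (hRx ▸ hc))
    · intro W hWQ hWne hSW hxW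
      rw [← hRx]
      refine h.step_centralizes hP hWQ le_rfl (hRx ▸ Subgroup.zpowers_le.2 hxW) hP.hRS hSW fun e => hWne ?_
      refine le_antisymm hWQ fun u hu => ?_
      have hWN : W ≤ Subgroup.normalizer (V : Set G) := hWQ.trans (hP.hQH.trans h.hHV)
      have huL : u ∈ ((V ⊔ W ⊔ S : Subgroup G) : Set G) := by rw [e]; exact hP.hQH hu
      rw [Subgroup.coe_mul_of_right_le_normalizer_left _ _ (le_normalizer_sup_of_le (hP.hSH.trans h.hHV) hSW),
        Set.mem_mul] at huL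
      obtain ⟨w, hw, s, hs, hws⟩ := huL
      have hwJ : w ∈ J := hJ ▸ (sup_le_sup_left hWQ V) hw
      have hsJ : s ∈ J := by
        have huJ : u ∈ J := hJ ▸ Subgroup.mem_sup_right hu
        have := J.mul_mem (J.inv_mem hwJ) huJ
        rwa [← hws, inv_mul_cancel_left] at this
      have hu' : u ∈ ((V ⊔ W : Subgroup G) : Set G) := hws ▸ mul_mem hw (Subgroup.mem_sup_left (hJS ⟨hsJ, hs⟩))
      rw [Subgroup.coe_mul_of_right_le_normalizer_left _ _ hWN, Set.mem_mul] at hu'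
      obtain ⟨v, hv, w', hw', rfl⟩ := hu'
      have hv1 : v ∈ Q ⊓ V := ⟨by simpa using Q.mul_mem hu (Q.inv_mem (hWQ hw')), hv⟩
      rw [h.Q_inf_pgroup hP h.isPGroup_V, Subgroup.mem_bot] at hv1
      rw [hv1, one_mul]; exact hw'
    · intro T hTS hxT hTne
      rw [← hRx]
      refine h.step_centralizes hP le_rfl hTS hP.hRQ (hRx ▸ Subgroup.zpowers_le.2 hxT) (hTS.trans hP.hSQ)
        fun e => hTne (le_antisymm (sup_le hTS inf_le_left) fun s hs => ?_)
      have hsL : s ∈ ((J ⊔ T : Subgroup G) : Set G) := by rw [hJ, e]; exact hP.hSH hs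
      rw [hmul hTS, Set.mem_mul] at hsL
      obtain ⟨j, hj, t, ht, rfl⟩ := hsL
      have hjS : j ∈ S := by simpa using S.mul_mem hs (S.inv_mem (hTS ht))
      exact mul_mem (Subgroup.mem_sup_right ⟨hjS, hJSc ⟨hj, hjS⟩⟩) (Subgroup.mem_sup_left ht)
  exact hSRS.trans hard.centralizes

/-- In the case `R = R₀` the index of `V` is prime to `p`. -/
theorem not_dvd_of_eq (heq : R = R₀) : ¬ p ∣ V.relIndex H := by
  classical
  haveI := Fact.mk h.hp
  haveI := h.hsol
  have hcopR : (Nat.card R).Coprime (Nat.card H) := h.hcop.symm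
  obtain ⟨P₀, hP₀⟩ := exists_invariant_sylow (p := p) h.hRH hcopR (Or.inr h.hsol)
  set P := (P₀ : Subgroup H).map H.subtype with hPdef
  have hPH : P ≤ H := Subgroup.map_subtype_le _
  have hPp : IsPGroup p P := P₀.2.map _
  have hPR : ⁅P, R⁆ ≤ P := commutator_le_left_of_le_normalizer hP₀
  have hPV : ⁅P, R⁆ ≤ V := by
    refine h.le_V_of_centralizes_layers (hPR.trans hPH) (hPp.to_le hPR) fun q hq hqp => ?_
    obtain ⟨Q, S, hP⟩ := h.exists_pair' hq hqp
    let K : Subgroup G :=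
      { carrier := {y | y ∈ H ∧ ∀ l ∈ layer V H q, ⁅y, l⁆ ∈ V}
        one_mem' := ⟨one_mem H, fun l _ => by simp⟩
        mul_mem' := fun {a b} ha hb => ⟨mul_mem ha.1 hb.1, fun l hl => by
          rw [show ⁅a * b, l⁆ = a * ⁅b, l⁆ * a⁻¹ * ⁅a, l⁆ by simp only [commutatorElement_def]; group]
          exact V.mul_mem (conj_mem_of_le_normalizer (h.hHV ha.1) _ (hb.2 l hl)) (ha.2 l hl)⟩
        inv_mem' := fun {a} ha => ⟨inv_mem ha.1, fun l hl => by
          rw [show ⁅a⁻¹, l⁆ = a⁻¹ * ⁅a, l⁆⁻¹ * a⁻¹⁻¹ by simp only [commutatorElement_def]; group]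
          exact conj_mem_of_le_normalizer (inv_mem (h.hHV ha.1)) _ (V.inv_mem (ha.2 l hl))⟩ }
    suffices hle : ⁅P, R⁆ ≤ K from fun s hs => (hle hs).2
    have hSVH : S ⊔ V ≤ H := sup_le hP.hSH h.hVH
    have hSV : IsPGroup p ↥(S ⊔ V) := hP.hS.to_sup_of_normal_right' h.isPGroup_V (hP.hSH.trans h.hHV)
    have hSV' : IsPGroup p ((S ⊔ V).subgroupOf H) := hSV.of_equiv (Subgroup.subgroupOfEquivOfLe hSVH).symm
    have hidx : ¬ p ∣ ((S ⊔ V).subgroupOf H).index := hP.hidx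
    have hSyl : ((hSV'.toSylow hidx : Sylow p H) : Subgroup H).map H.subtype = S ⊔ V :=
      Subgroup.map_subgroupOf_eq_of_le hSVH
    obtain ⟨c, hc, hce⟩ := invariant_sylow_conj h.hRH hcopR (Or.inr h.hsol) (hSV'.toSylow hidx) P₀
      (by rw [hSyl]; exact le_normalizer_sup_of_le hP.hRS h.hRV) hP₀
    have hPc : P = MulAut.conj (c : G) • (S ⊔ V) := by
      have := map_subtype_conj_smul_sylow c (hSV'.toSylow hidx)
      rw [hce, hSyl] at this
      exact this
    refine Subgroup.commutator_le.2 fun w hw g hg => ?_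
    rw [hPc, mem_conj_smul_iff] at hw
    have hw' : (c : G)⁻¹ * w * c ∈ ((S ⊔ V : Subgroup G) : Set G) := hw
    rw [Subgroup.coe_mul_of_left_le_normalizer_right S V (hP.hSH.trans h.hHV), Set.mem_mul] at hw'
    obtain ⟨a, ha, v, hv, hav⟩ := hw'
    have hw2 : w = (c : G) * (a * v) * (c : G)⁻¹ := by rw [hav]; group
    have hgc : g * (c : G) = c * g := hc g hg
    set a' := ⁅a, g⁆ with ha'
    have ha'S : a' ∈ ⁅S, R⁆ := Subgroup.commutator_mem_commutator ha hg
    have ha'H : a' ∈ H := hP.hSH (commutator_le_left_of_le_normalizer hP.hRS ha'S)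
    have hvg : ⁅v, g⁆ ∈ V := commutator_le_left_of_le_normalizer h.hRV (Subgroup.commutator_mem_commutator hv hg)
    set v' := a'⁻¹ * (a * ⁅v, g⁆ * a⁻¹) * a' with hv'
    have hv'V : v' ∈ V := by
      have := conj_mem_of_le_normalizer (inv_mem (h.hHV ha'H)) _
        (conj_mem_of_le_normalizer (h.hHV (hP.hSH ha)) _ hvg)
      simpa [hv'] using this
    have e : ⁅w, g⁆ = (c : G) * (a' * v') * (c : G)⁻¹ := by
      have e1 : ⁅(c : G) * (a * v) * (c : G)⁻¹, g⁆ = c * ⁅a * v, g⁆ * (c : G)⁻¹ := by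
        have e2 : (c : G)⁻¹ * g = g * (c : G)⁻¹ := ((show Commute g (c : G) from hgc).inv_right).eq.symm
        simp only [commutatorElement_def, mul_inv_rev, inv_inv]
        calc (c : G) * (a * v) * (c : G)⁻¹ * g * ((c : G) * (v⁻¹ * a⁻¹ * (c : G)⁻¹)) * g⁻¹
            = c * (a * v) * ((c : G)⁻¹ * g) * c * v⁻¹ * a⁻¹ * ((c : G)⁻¹ * g⁻¹) := by group
          _ = c * (a * v) * (g * (c : G)⁻¹) * c * v⁻¹ * a⁻¹ * (g⁻¹ * (c : G)⁻¹) := by
              rw [e2, show (c : G)⁻¹ * g⁻¹ = g⁻¹ * (c : G)⁻¹ by rw [← mul_inv_rev, hgc, mul_inv_rev]]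
          _ = _ := by group
      rw [hw2, e1, hv', ha']
      simp only [commutatorElement_def]; group
    rw [e]
    exact ⟨mul_mem (mul_mem c.2 (mul_mem ha'H (h.hVH hv'V))) (inv_mem c.2),
      h.kills_conj_mul c.2 ha'H hv'V fun l hl =>
        h.commutator_mem_of_commute hP ha'H (fun u hu => (h.commutator_centralizes_of_eq heq hP ha'S u hu).symm) hl⟩
  obtain ⟨M, hVM, hMH, hHM, hRM, hMidx, hmax⟩ := h.exists_M
  suffices hPM : P ≤ M by
    have hPV' : P ≤ V := h.pGroup_le_V hMH hMidx hPM hPp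
    intro hd
    refine P₀.not_dvd_index (hd.trans ?_)
    rw [Subgroup.relIndex]
    exact Subgroup.index_dvd_of_le fun w hw => hPV' ⟨w, hw, rfl⟩
  -- `M P` is normal in `H`
  obtain ⟨x, hxR₀, hx, hxr⟩ := exists_gen_of_prime h.hR₀p
  haveI : (V.subgroupOf H).Normal := Subgroup.normal_subgroupOf_of_le_normalizer h.hHV
  set f := QuotientGroup.mk' (V.subgroupOf H) with hf
  have hfs : Function.Surjective f := QuotientGroup.mk'_surjective _
  haveI : Group.IsSolvable (H ⧸ V.subgroupOf H) := solvable_of_surjective hfs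
  have hcyc : IsCyclic ↥((P₀ : Subgroup H).map f) := by
    haveI := hPp.isNilpotent
    have hsplit := commutator_sup_centralizer hP₀
      (hcopR.coprime_dvd_right (Subgroup.card_dvd_of_le hPH)) (Or.inr (inferInstance : Group.IsSolvable P))
    set C := P ⊓ Subgroup.centralizer (R : Set G) with hC
    haveI hCc : IsCyclic C := by
      haveI := h.cyclic_fixed h.hp hPp hPH hx
      exact isCyclic_of_injective (Subgroup.inclusion (inf_le_inf_left P (Subgroup.centralizer_le (by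
        intro y hy; rw [Set.mem_singleton_iff] at hy; rw [hy]; exact h.hR₀ hxR₀))))
        (Subgroup.inclusion_injective _)
    have hCH : C ≤ H := inf_le_left.trans hPH
    haveI : IsCyclic (C.subgroupOf H) :=
      isCyclic_of_surjective _ (Subgroup.subgroupOfEquivOfLe hCH).symm.surjective
    have heqimg : (P₀ : Subgroup H).map f = (C.subgroupOf H).map f := by
      refine le_antisymm ?_ (Subgroup.map_mono fun w hw => ?_)
      · rintro _ ⟨w, hw, rfl⟩
        have h1 : (w : G) ∈ ((⁅P, R⁆ ⊔ C : Subgroup G) : Set G) := hsplit.symm.le ⟨w, hw, rfl⟩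
        rw [Subgroup.coe_mul_of_right_le_normalizer_left _ _
          (inf_le_left.trans (Subgroup.normalizer_commutator_ge_left _ _)), Set.mem_mul] at h1
        obtain ⟨v, hv, c, hc, hvc⟩ := h1
        refine ⟨⟨c, hCH hc⟩, hc, ?_⟩
        have hw' : w = ⟨v, h.hVH (hPV hv)⟩ * ⟨c, hCH hc⟩ := Subtype.ext hvc.symm
        rw [hw', map_mul, show f ⟨v, h.hVH (hPV hv)⟩ = 1 from (QuotientGroup.eq_one_iff _).2 (hPV hv), one_mul]
      · obtain ⟨w', hw', e⟩ := hw.1
        exact Subtype.ext e ▸ hw'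
    rw [heqimg]
    exact isCyclic_of_surjective _ (f.subgroupMap_surjective _)
  have hodd' : Odd (Nat.card (H ⧸ V.subgroupOf H)) :=
    Odd.of_dvd_nat (Odd.of_dvd_nat h.hodd H.card_subgroup_dvd_card) (Subgroup.card_quotient_dvd_card _)
  set Pf := P₀.mapSurjective hfs with hPf
  have hcycPf : IsCyclic ↥(Pf : Subgroup (H ⧸ V.subgroupOf H)) := by rw [hPf, Sylow.coe_mapSurjective]; exact hcyc
  haveI := hcycPf
  have hnorm := Cfsg.Agent.S0521.result hodd' p Pf inferInstance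
  set O := Cfsg.pPrimeCore p (H ⧸ V.subgroupOf H) with hO
  haveI := CfsgLib.Transfer.pPrimeCore_normal p (H ⧸ V.subgroupOf H)
  set A := (O.comap f).map H.subtype with hAdef
  have hAH : A ≤ H := Subgroup.map_subtype_le _
  have hHA : H ≤ Subgroup.normalizer (A : Set G) := by
    refine fun a ha => mem_normalizer_of_conj ?_
    rintro _ ⟨w, hw, rfl⟩
    exact ⟨⟨a, ha⟩ * w * ⟨a, ha⟩⁻¹, (Subgroup.Normal.comap inferInstance f).conj_mem w hw _, rfl⟩
  have hAM : A ≤ M := by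
    refine hmax A hAH hHA ?_
    have hVA : V ≤ A := fun v hv => ⟨⟨v, h.hVH hv⟩,
      show f ⟨v, h.hVH hv⟩ ∈ O by rw [show f ⟨v, h.hVH hv⟩ = 1 from (QuotientGroup.eq_one_iff _).2 hv]; exact one_mem _,
      rfl⟩
    have hAc : A.subgroupOf H = O.comap f := by
      rw [hAdef, Subgroup.subgroupOf, Subgroup.comap_map_eq_self_of_injective H.subtype_injective]
    rw [sup_eq_right.2 hVA, ← Subgroup.relIndex_subgroupOf hAH, hAc]
    have h3 := Subgroup.relIndex_ker (K := O.comap f) (f := f)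
    rw [Subgroup.map_comap_eq_self_of_surjective hfs, QuotientGroup.ker_mk'] at h3
    rw [h3]
    exact h.hp.coprime_iff_not_dvd.1 (CfsgLib.Transfer.pPrimeCore_coprime p).symm
  have hconj : ∀ a ∈ H, ∀ s ∈ P, a * s * a⁻¹ ∈ M ⊔ P := by
    rintro a ha _ ⟨s, hs, rfl⟩
    have h1 : f (⟨a, ha⟩ * s * ⟨a, ha⟩⁻¹) ∈ ((O.comap f ⊔ (P₀ : Subgroup H)).map f) := by
      rw [Subgroup.map_sup, Subgroup.map_comap_eq_self_of_surjective hfs, map_mul, map_mul, map_inv]
      refine hnorm.conj_mem _ (Subgroup.mem_sup_right ?_) _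
      rw [hPf, Sylow.coe_mapSurjective]
      exact Subgroup.mem_map_of_mem f hs
    obtain ⟨w, hw, hwe⟩ := h1
    have hd : w⁻¹ * (⟨a, ha⟩ * s * ⟨a, ha⟩⁻¹) ∈ V.subgroupOf H := by
      rw [← QuotientGroup.eq]
      exact hwe
    have hwMP : (w : G) ∈ M ⊔ P := by
      have := Subgroup.mem_map_of_mem H.subtype hw
      rw [Subgroup.map_sup] at this
      exact (sup_le_sup_right hAM P) this
    have := mul_mem hwMP (Subgroup.mem_sup_left (hVM hd) : _ ∈ M ⊔ P)
    simpa using this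
  have hMPH : M ⊔ P ≤ H := sup_le hMH hPH
  have hNconj : ∀ a ∈ H, ∀ n ∈ M ⊔ P, a * n * a⁻¹ ∈ M ⊔ P := by
    intro a ha n hn
    rw [← SetLike.mem_coe, Subgroup.coe_mul_of_right_le_normalizer_left M P (hPH.trans hHM), Set.mem_mul] at hn
    obtain ⟨m, hm, s, hs, rfl⟩ := hn
    rw [show a * (m * s) * a⁻¹ = (a * m * a⁻¹) * (a * s * a⁻¹) by group]
    exact mul_mem (Subgroup.mem_sup_left (conj_mem_of_le_normalizer (hHM ha) m hm)) (hconj a ha s hs)
  -- `M P / M` is central in `H/M`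
  set N := Subgroup.normalizer (M : Set G)
  haveI : (M.subgroupOf N).Normal := Subgroup.normal_in_normalizer
  set φ := QuotientGroup.mk' (M.subgroupOf N)
  have hφ : ∀ w : N, φ w = 1 ↔ (w : G) ∈ M := fun w => by
    rw [QuotientGroup.mk'_apply, QuotientGroup.eq_one_iff, Subgroup.mem_subgroupOf]
  have hfix : ∀ n (hn : n ∈ M ⊔ P), ∀ g (hg : g ∈ R),
      Commute (φ ⟨n, hHM (hMPH hn)⟩) (φ ⟨g, hRM hg⟩) := by
    intro n hn g hg
    have hn' : n ∈ ((M ⊔ P : Subgroup G) : Set G) := hn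
    rw [Subgroup.coe_mul_of_right_le_normalizer_left M P (hPH.trans hHM), Set.mem_mul] at hn'
    obtain ⟨m, hm, s, hs, rfl⟩ := hn'
    have hsn : (⟨m * s, hHM (hMPH hn)⟩ : N) = ⟨m, Subgroup.le_normalizer hm⟩ * ⟨s, hHM (hPH hs)⟩ := rfl
    rw [hsn, map_mul, (hφ ⟨m, _⟩).2 hm, one_mul]
    refine commutatorElement_eq_one_iff_mul_comm.1 ?_
    rw [← map_commutatorElement, hφ]
    exact hVM (hPV (Subgroup.commutator_mem_commutator hs hg))
  have hcen : ∀ a (ha : a ∈ H), ∀ n (hn : n ∈ M ⊔ P), Commute (φ ⟨a, hHM ha⟩) (φ ⟨n, hHM (hMPH hn)⟩) := by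
    let K : Subgroup G :=
      { carrier := {y | ∃ hy : y ∈ H, ∀ n (hn : n ∈ M ⊔ P), Commute (φ ⟨y, hHM hy⟩) (φ ⟨n, hHM (hMPH hn)⟩)}
        one_mem' := ⟨one_mem H, fun n hn => by
          rw [(hφ ⟨1, _⟩).2 (one_mem M)]; exact Commute.one_left _⟩
        mul_mem' := fun {a b} ⟨ha, ha'⟩ ⟨hb, hb'⟩ => ⟨mul_mem ha hb, fun n hn => by
          rw [show (⟨a * b, hHM (mul_mem ha hb)⟩ : N) = ⟨a, hHM ha⟩ * ⟨b, hHM hb⟩ from rfl, map_mul]
          exact (ha' n hn).mul_left (hb' n hn)⟩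
        inv_mem' := fun {a} ⟨ha, ha'⟩ => ⟨inv_mem ha, fun n hn => by
          rw [show (⟨a⁻¹, hHM (inv_mem ha)⟩ : N) = ⟨a, hHM ha⟩⁻¹ from rfl, map_inv]
          exact (ha' n hn).inv_left⟩ }
    suffices hK : H ≤ K from fun a ha n hn => (hK ha).2 n hn
    rw [← h.hcomm]
    refine Subgroup.commutator_le.2 fun a ha g hg => ?_
    have hmem : ⁅a, g⁆ ∈ H := h.hcomm.le (Subgroup.commutator_mem_commutator ha hg)
    refine ⟨hmem, fun n hn => ?_⟩
    have hn' : a⁻¹ * n * a ∈ M ⊔ P := by simpa using hNconj a⁻¹ (inv_mem ha) n hn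
    set A' := φ ⟨a, hHM ha⟩
    set G' := φ ⟨g, hRM hg⟩
    set N' := φ ⟨n, hHM (hMPH hn)⟩
    have e1 : (⟨⁅a, g⁆, hHM hmem⟩ : N) = ⁅(⟨a, hHM ha⟩ : N), ⟨g, hRM hg⟩⁆ := rfl
    have e2 : φ ⟨a⁻¹ * n * a, hHM (hMPH hn')⟩ = A'⁻¹ * N' * A' := by
      rw [show (⟨a⁻¹ * n * a, hHM (hMPH hn')⟩ : N) = (⟨a, hHM ha⟩ : N)⁻¹ * ⟨n, hHM (hMPH hn)⟩ * ⟨a, hHM ha⟩ from rfl,
        map_mul, map_mul, map_inv]
    have c1 : Commute (A'⁻¹ * N' * A') G' := e2 ▸ hfix _ hn' g hg
    have c2 : Commute N' G' := hfix n hn g hg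
    have c3 : Commute (A' * G' * A'⁻¹) N' := by
      show A' * G' * A'⁻¹ * N' = N' * (A' * G' * A'⁻¹)
      calc A' * G' * A'⁻¹ * N' = A' * (G' * (A'⁻¹ * N' * A')) * A'⁻¹ := by group
        _ = A' * ((A'⁻¹ * N' * A') * G') * A'⁻¹ := by rw [c1.eq]
        _ = _ := by group
    rw [e1, map_commutatorElement, commutatorElement_def]
    exact c3.mul_left c2.symm.inv_left
  -- transfer
  haveI : (M.subgroupOf H).Normal := Subgroup.normal_subgroupOf_of_le_normalizer hHM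
  set π := QuotientGroup.mk' (M.subgroupOf H) with hπ
  have hπs : Function.Surjective π := QuotientGroup.mk'_surjective _
  have hcenter : (P₀ : Subgroup H).map π ≤ Subgroup.center (H ⧸ M.subgroupOf H) := by
    rintro _ ⟨s, hs, rfl⟩
    rw [Subgroup.mem_center_iff]
    intro w
    obtain ⟨a, rfl⟩ := hπs w
    refine commutatorElement_eq_one_iff_mul_comm.1 ?_
    rw [← map_commutatorElement, QuotientGroup.mk'_apply, QuotientGroup.eq_one_iff, Subgroup.mem_subgroupOf]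
    have := commutatorElement_eq_one_iff_mul_comm.2
      (hcen a a.2 s (Subgroup.mem_sup_right ⟨s, hs, rfl⟩)).eq
    rw [← map_commutatorElement, hφ] at this
    exact this
  have hzidx : ¬ p ∣ (Subgroup.center (H ⧸ M.subgroupOf H)).index := fun hd =>
    (P₀.mapSurjective hπs).not_dvd_index (hd.trans (Subgroup.index_dvd_of_le
      (by rw [Sylow.coe_mapSurjective]; exact hcenter)))
  rintro _ ⟨s, hs, rfl⟩
  set W := M ⊔ ⁅H, H⁆ with hW
  have hsW : (s : G) ∈ W := mem_of_fixed_mod h.hRH h.hcop h.hcomm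
    (sup_le hMH (commutator_le_left_of_le_normalizer Subgroup.le_normalizer))
    (le_normalizer_sup_of_le hRM (le_normalizer_commutator h.hRH h.hRH)) le_sup_right s.2
    fun g hg => Subgroup.mem_sup_left (hVM (hPV (Subgroup.commutator_mem_commutator ⟨s, hs, rfl⟩ hg)))
  have hsc : π s ∈ commutator (H ⧸ M.subgroupOf H) := by
    rw [← SetLike.mem_coe, hW, Subgroup.coe_mul_of_right_le_normalizer_left M ⁅H, H⁆
      ((commutator_le_left_of_le_normalizer Subgroup.le_normalizer).trans hHM), Set.mem_mul] at hsW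
    obtain ⟨m, hm, d, hd, hmd⟩ := hsW
    have hd' : d ∈ (commutator H).map H.subtype := by
      rwa [commutator_def, Subgroup.map_commutator, ← MonoidHom.range_eq_map, Subgroup.range_subtype]
    obtain ⟨d', hd', rfl⟩ := hd'
    have hse : s = ⟨m, hMH hm⟩ * d' := Subtype.ext hmd.symm
    rw [hse, map_mul, show π ⟨m, hMH hm⟩ = 1 from (QuotientGroup.eq_one_iff _).2 hm, one_mul]
    have := Subgroup.mem_map_of_mem π hd'
    rw [commutator_def, Subgroup.map_commutator, Subgroup.map_top_of_surjective π hπs] at this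
    exact this
  have hle : commutator (H ⧸ M.subgroupOf H) ≤ (MonoidHom.transferCenterPow (H ⧸ M.subgroupOf H)).ker := by
    rw [commutator_def]
    refine Subgroup.commutator_le.2 fun a _ b _ => ?_
    rw [MonoidHom.mem_ker, map_commutatorElement, commutatorElement_eq_one_iff_mul_comm]
    exact Subtype.ext (Subgroup.mem_center_iff.1 (MonoidHom.transferCenterPow (H ⧸ M.subgroupOf H) b).2 _)
  have ht : MonoidHom.transferCenterPow (H ⧸ M.subgroupOf H) (π s) = 1 := MonoidHom.mem_ker.1 (hle hsc)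
  have h1 : (π s) ^ (Subgroup.center (H ⧸ M.subgroupOf H)).index = 1 := by
    rw [← MonoidHom.transferCenterPow_apply, ht, OneMemClass.coe_one]
  obtain ⟨k, hk⟩ := P₀.2 ⟨s, hs⟩
  have h2 : (π s) ^ p ^ k = 1 := by
    rw [← map_pow, show (s : H) ^ p ^ k = 1 from congrArg Subtype.val hk, map_one]
  have h3 : π s = 1 := orderOf_eq_one_iff.1 (Nat.eq_one_of_dvd_coprimes
    ((h.hp.coprime_iff_not_dvd.2 hzidx).pow_left k) (orderOf_dvd_of_pow_eq_one h2) (orderOf_dvd_of_pow_eq_one h1))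
  exact Subgroup.mem_subgroupOf.1 ((QuotientGroup.eq_one_iff (N := M.subgroupOf H) s).1 h3)

end Setting

end CfsgLib.BG.PLengthHall
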