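import Cfsg.Agent.Lib.BG.PLengthHall.Layer

/-!
Sylow pairs of the layers and what they give.
-/

set_option autoImplicit false
set_option linter.style.haveILetI false
set_option linter.unusedSectionVars false

open scoped commutatorElement
open scoped Pointwise

namespace CfsgLib.BG.PLengthHall

open CfsgLib.Coprime
open CfsgLib.BG.FixedLine (conj_mem_of_le_normalizer mem_normalizer_of_conj)

universe u

variable {G : Type u} [Group G] [Finite G]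

/-- Two automorphisms of a cyclic subgroup commute. -/
theorem commutator_fix_of_cyclic {C : Subgroup G} (hC : IsCyclic C) {g k : G}
    (hg : g ∈ Subgroup.normalizer (C : Set G)) (hk : k ∈ Subgroup.normalizer (C : Set G))
    {c : G} (hc : c ∈ C) : ⁅g, k⁆ * c = c * ⁅g, k⁆ := by
  obtain ⟨c₀, hc₀⟩ := hC.exists_generator
  have hgen : ∀ w ∈ C, ∃ i : ℤ, w = (c₀ : G) ^ i := fun w hw => by
    obtain ⟨i, hi⟩ := Subgroup.mem_zpowers_iff.1 (hc₀ ⟨w, hw⟩)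
    exact ⟨i, by simpa using (congrArg Subtype.val hi).symm⟩
  have hzp : ∀ (g : G) (n : ℤ), g * (c₀ : G) ^ n * g⁻¹ = (g * (c₀ : G) * g⁻¹) ^ n := fun g n => by
    rw [← MulAut.conj_apply, map_zpow, MulAut.conj_apply]
  obtain ⟨i, hi⟩ := hgen _ (conj_mem_of_le_normalizer hg _ c₀.2)
  obtain ⟨j, hj⟩ := hgen _ (conj_mem_of_le_normalizer hk _ c₀.2)
  have e1 : (g * k) * (c₀ : G) * (g * k)⁻¹ = (c₀ : G) ^ (i * j) := by
    rw [show (g * k) * (c₀ : G) * (g * k)⁻¹ = g * (k * (c₀ : G) * k⁻¹) * g⁻¹ by group, hj, hzp, hi, ← zpow_mul]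
  have e2 : (k * g) * (c₀ : G) * (k * g)⁻¹ = (c₀ : G) ^ (i * j) := by
    rw [show (k * g) * (c₀ : G) * (k * g)⁻¹ = k * (g * (c₀ : G) * g⁻¹) * k⁻¹ by group, hi, hzp, hj, ← zpow_mul,
      mul_comm]
  have h3 : ⁅g, k⁆ * (c₀ : G) * ⁅g, k⁆⁻¹ = c₀ := by
    calc ⁅g, k⁆ * (c₀ : G) * ⁅g, k⁆⁻¹
        = (g * k) * ((k * g)⁻¹ * (c₀ : G) * (k * g)) * (g * k)⁻¹ := by
          simp only [commutatorElement_def]; group
      _ = (k * g) * ((k * g)⁻¹ * (c₀ : G) * (k * g)) * (k * g)⁻¹ := by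
          obtain ⟨m, hm⟩ := hgen _ (conj_mem_of_le_normalizer
            (inv_mem (mul_mem hk hg)) _ c₀.2)
          rw [inv_inv] at hm
          rw [hm]
          have q1 : ∀ (a : G), a * (c₀ : G) ^ m * a⁻¹ = (a * (c₀ : G) * a⁻¹) ^ m := fun a => hzp a m
          rw [q1, q1, e1, e2]
      _ = c₀ := by group
  obtain ⟨n, rfl⟩ := hgen c hc
  exact ((show Commute ⁅g, k⁆ (c₀ : G) from mul_inv_eq_iff_eq_mul.1 h3).zpow_right n).eq

/-- A Sylow pair of the layer at `q`. -/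
structure Pair (p q : ℕ) (H R V Q S : Subgroup G) : Prop where
  hq : q.Prime
  hqp : q ≠ p
  hQ : IsPGroup q Q
  hQH : Q ≤ H
  hRQ : R ≤ Subgroup.normalizer (Q : Set G)
  hfaith : Q ⊓ Subgroup.centralizer (V : Set G) = ⊥
  hlayer : layer V H q = V ⊔ Q
  hS : IsPGroup p S
  hSH : S ≤ H
  hSQ : S ≤ Subgroup.normalizer (Q : Set G)
  hRS : R ≤ Subgroup.normalizer (S : Set G)
  hidx : ¬ p ∣ (S ⊔ V).relIndex H

namespace Setting

variable {p : ℕ} {H R R₀ V : Subgroup G} (h : Setting p H R R₀ V)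

include h

theorem exists_pair' {q : ℕ} (hq : q.Prime) (hqp : q ≠ p) : ∃ Q S : Subgroup G, Pair p q H R V Q S := by
  obtain ⟨Q, S, h1, h2, h3, h4, h5, h6, h7, h8, h9, h10⟩ := h.exists_pair hq hqp
  exact ⟨Q, S, hq, hqp, h1, h2, h3, h4, h5, h6, h7, h8, h9, h10⟩

variable {q : ℕ} {Q S : Subgroup G}

theorem Q_inf_pgroup (hP : Pair p q H R V Q S) {W : Subgroup G} (hW : IsPGroup p W) : Q ⊓ W = ⊥ := by
  haveI := Fact.mk h.hp
  haveI := Fact.mk hP.hq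
  exact inf_eq_bot_of_coprime_card (CfsgLib.PSolvable.coprime_card_of_isPGroup hP.hQ (by
    obtain ⟨k, hk⟩ := hW.exists_card_eq
    rw [hk]
    exact ((Nat.coprime_primes h.hp hP.hq).2 hP.hqp.symm).pow_left k))

/-- An element of `S ∩ V` centralizes `Q`. -/
theorem commute_of_mem_V (hP : Pair p q H R V Q S) {v u : G} (hv : v ∈ V)
    (hvQ : v ∈ Subgroup.normalizer (Q : Set G)) (hu : u ∈ Q) : v * u = u * v := by
  have h1 : ⁅v, u⁆ ∈ Q ⊓ V := ⟨?_, ?_⟩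
  · rw [h.Q_inf_pgroup hP h.isPGroup_V, Subgroup.mem_bot, commutatorElement_eq_one_iff_mul_comm] at h1
    exact h1
  · rw [show ⁅v, u⁆ = (v * u * v⁻¹) * u⁻¹ by rw [commutatorElement_def]]
    exact Q.mul_mem (conj_mem_of_le_normalizer hvQ u hu) (Q.inv_mem hu)
  · rw [show ⁅v, u⁆ = v * (u * v⁻¹ * u⁻¹) by rw [commutatorElement_def]; group]
    exact V.mul_mem hv (conj_mem_of_le_normalizer (h.hHV (hP.hQH hu)) _ (V.inv_mem hv))

theorem commutator_mem_of_commute (hP : Pair p q H R V Q S) {a l : G} (ha : a ∈ H)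
    (hc : ∀ u ∈ Q, a * u = u * a) (hl : l ∈ layer V H q) : ⁅a, l⁆ ∈ V := by
  rw [hP.hlayer, ← SetLike.mem_coe, Subgroup.coe_mul_of_right_le_normalizer_left V Q (hP.hQH.trans h.hHV),
    Set.mem_mul] at hl
  obtain ⟨v, hv, u, hu, rfl⟩ := hl
  have e : ⁅a, v * u⁆ = (a * v * a⁻¹) * v⁻¹ := by
    rw [commutatorElement_def, mul_inv_rev]
    calc a * (v * u) * a⁻¹ * (u⁻¹ * v⁻¹) = a * v * (u * a⁻¹ * u⁻¹) * v⁻¹ := by group
      _ = _ := by
        rw [show u * a⁻¹ * u⁻¹ = a⁻¹ by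
          have hai : a⁻¹ * u = u * a⁻¹ := ((show Commute a u from hc u hu).inv_left).eq
          rw [← hai]; group]
  rw [e]
  exact V.mul_mem (conj_mem_of_le_normalizer (h.hHV ha) v hv) (V.inv_mem hv)

theorem kills_conj_mul {g a v : G} (hg : g ∈ H) (ha : a ∈ H) (hv : v ∈ V)
    (hk : ∀ l ∈ layer V H q, ⁅a, l⁆ ∈ V) : ∀ l ∈ layer V H q, ⁅g * (a * v) * g⁻¹, l⁆ ∈ V := by
  intro l hl
  have hN := h.H_le_normalizer_layer q hg
  have hl' : g⁻¹ * l * g ∈ layer V H q := by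
    simpa using conj_mem_of_le_normalizer (inv_mem hN) l hl
  have hlV : g⁻¹ * l * g ∈ Subgroup.normalizer (V : Set G) := h.hHV (h.layer_le q hl')
  have e : ⁅g * (a * v) * g⁻¹, l⁆ = g * ((a * ⁅v, g⁻¹ * l * g⁆ * a⁻¹) * ⁅a, g⁻¹ * l * g⁆) * g⁻¹ := by
    simp only [commutatorElement_def]; group
  rw [e]
  refine conj_mem_of_le_normalizer (h.hHV hg) _ (V.mul_mem (conj_mem_of_le_normalizer (h.hHV ha) _ ?_) (hk _ hl'))
  rw [show ⁅v, g⁻¹ * l * g⁆ = v * ((g⁻¹ * l * g) * v⁻¹ * (g⁻¹ * l * g)⁻¹) by rw [commutatorElement_def]; group]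
  exact V.mul_mem hv (conj_mem_of_le_normalizer hlV _ (V.inv_mem hv))

/-- Every `p`-element of `H` is conjugate into `SV`. -/
theorem exists_conj_mem_pair (hP : Pair p q H R V Q S) {X : Subgroup G} (hXH : X ≤ H) (hX : IsPGroup p X)
    {y : G} (hy : y ∈ X) : ∃ g ∈ H, ∃ a ∈ S, ∃ v ∈ V, y = g * (a * v) * g⁻¹ := by
  haveI := Fact.mk h.hp
  have hSVH : S ⊔ V ≤ H := sup_le hP.hSH h.hVH
  have hSV : IsPGroup p ↥(S ⊔ V) := hP.hS.to_sup_of_normal_right' h.isPGroup_V (hP.hSH.trans h.hHV)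
  have hSV' : IsPGroup p ((S ⊔ V).subgroupOf H) := hSV.of_equiv (Subgroup.subgroupOfEquivOfLe hSVH).symm
  set P₀ := hSV'.toSylow hP.hidx
  obtain ⟨P₁, hP₁⟩ := (hX.comap_of_injective H.subtype H.subtype_injective).exists_le_sylow
  obtain ⟨g, hg⟩ := MulAction.exists_smul_eq H P₀ P₁
  have hy' : (⟨y, hXH hy⟩ : H) ∈ (g • P₀ : Sylow p H) := by
    rw [hg]; exact hP₁ (show ((⟨y, hXH hy⟩ : H) : G) ∈ X from hy)
  have hy2 : (⟨y, hXH hy⟩ : H) ∈ ((g • P₀ : Sylow p H) : Subgroup H) := hy'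
  rw [Sylow.coe_subgroup_smul, mem_conj_smul_iff] at hy2
  have hy3 : (g : G)⁻¹ * y * g ∈ S ⊔ V := by
    have := Subgroup.mem_subgroupOf.1 (show _ ∈ (S ⊔ V).subgroupOf H from hy2)
    simpa [mul_assoc] using this
  have hy'' : (g : G)⁻¹ * y * g ∈ ((S ⊔ V : Subgroup G) : Set G) := hy3
  rw [Subgroup.coe_mul_of_left_le_normalizer_right S V (hP.hSH.trans h.hHV), Set.mem_mul] at hy''
  obtain ⟨a, ha, v, hv, he⟩ := hy''
  exact ⟨g, g.2, a, ha, v, hv, by rw [he]; group⟩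

/-- If every `S` centralizes its `Q`, the index of `V` is prime to `p`. -/
theorem not_dvd_of_centralizes
    (hall : ∀ (q : ℕ) (Q S : Subgroup G), Pair p q H R V Q S → ∀ s ∈ S, ∀ u ∈ Q, s * u = u * s) :
    ¬ p ∣ V.relIndex H := by
  haveI := Fact.mk h.hp
  obtain ⟨P⟩ : Nonempty (Sylow p H) := inferInstance
  set P' := (P : Subgroup H).map H.subtype
  have hPH : P' ≤ H := Subgroup.map_subtype_le _
  have hPp : IsPGroup p P' := P.2.map _
  have hPV : P' ≤ V := by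
    refine h.le_V_of_centralizes_layers hPH hPp fun q hq hqp s hs => ?_
    obtain ⟨Q, S, hP⟩ := h.exists_pair' hq hqp
    obtain ⟨g, hg, a, ha, v, hv, rfl⟩ := h.exists_conj_mem_pair hP hPH hPp hs
    exact h.kills_conj_mul hg (hP.hSH ha) hv
      (fun l => h.commutator_mem_of_commute hP (hP.hSH ha) (hall q Q S hP a ha))
  intro hd
  refine P.not_dvd_index (hd.trans ?_)
  rw [Subgroup.relIndex]
  exact Subgroup.index_dvd_of_le fun w hw => hPV ⟨w, hw, rfl⟩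

end Setting

end CfsgLib.BG.PLengthHall
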