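import Cfsg.Agent.Lib.BG.PLengthHall.AutImage
import Cfsg.Agent.Lib.BG.FixedLine.Apply
import Cfsg.Agent.Lib.PSolvable.Omega

/-!
BG 3.6, the extremal configuration `H = V Q S`.
-/

set_option autoImplicit false
set_option linter.style.haveILetI false
set_option linter.unusedSectionVars false

open scoped commutatorElement

namespace CfsgLib.BG.PLengthHall

open CfsgLib.Coprime
open CfsgLib.BG.FixedLine (conj_mem_of_le_normalizer mem_normalizer_of_conj coprime_zpowers)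

variable {G : Type*} [Group G] [Finite G]

/-- The extremal configuration. -/
structure HardSetting (p q r : ℕ) (V Q S : Subgroup G) (x : G) : Prop where
  hodd : Odd (Nat.card G)
  hq : q.Prime
  hr : r.Prime
  hpq : p ≠ q
  hpr : p ≠ r
  hqr : q ≠ r
  hp2 : p ≠ 2
  hq2 : q ≠ 2
  hr2 : r ≠ 2
  hxr : x ^ r = 1
  hV : Cfsg.IsElementaryAbelian p V
  hQ : IsPGroup q Q
  hS : IsPGroup p S
  hxV : x ∈ Subgroup.normalizer (V : Set G)
  hxQ : x ∈ Subgroup.normalizer (Q : Set G)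
  hxS : x ∈ Subgroup.normalizer (S : Set G)
  hQV : Q ≤ Subgroup.normalizer (V : Set G)
  hSV : S ≤ Subgroup.normalizer (V : Set G)
  hSQ : S ≤ Subgroup.normalizer (Q : Set G)
  hfaith : Q ⊓ Subgroup.centralizer (V : Set G) = ⊥
  hCV : IsCyclic ↥(V ⊓ Subgroup.centralizer ({x} : Set G))
  hCQ : IsCyclic ↥(Q ⊓ Subgroup.centralizer ({x} : Set G))
  hgen : S ≤ ⁅S, Subgroup.zpowers x⁆ ⊔ (S ⊓ Subgroup.centralizer (Q : Set G))
  hWprop : ∀ W : Subgroup G, W ≤ Q → W ≠ Q → S ≤ Subgroup.normalizer (W : Set G) →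
    x ∈ Subgroup.normalizer (W : Set G) → ⁅S, Subgroup.zpowers x⁆ ≤ Subgroup.centralizer (W : Set G)
  hTprop : ∀ T : Subgroup G, T ≤ S → x ∈ Subgroup.normalizer (T : Set G) →
    T ⊔ (S ⊓ Subgroup.centralizer (Q : Set G)) ≠ S → ⁅T, Subgroup.zpowers x⁆ ≤ Subgroup.centralizer (Q : Set G)

namespace HardSetting

variable {p q r : ℕ} [Fact p.Prime] {V Q S : Subgroup G} {x : G} (h : HardSetting p q r V Q S x)

include h

theorem coprimeSQ : (Nat.card S).Coprime (Nat.card Q) := by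
  haveI := Fact.mk h.hq
  exact CfsgLib.PSolvable.coprime_card_of_isPGroup h.hS (by
    obtain ⟨k, hk⟩ := h.hQ.exists_card_eq
    rw [hk]
    exact ((Nat.coprime_primes h.hq Fact.out).2 h.hpq.symm).pow_left k)

theorem centralizes_proper {W : Subgroup G} (hW : W ≤ Q) (hne : W ≠ Q)
    (hSW : S ≤ Subgroup.normalizer (W : Set G)) (hxW : x ∈ Subgroup.normalizer (W : Set G)) :
    S ≤ Subgroup.centralizer (W : Set G) :=
  h.hgen.trans (sup_le (h.hWprop W hW hne hSW hxW)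
    (inf_le_right.trans (Subgroup.centralizer_le (SetLike.coe_subset_coe.2 hW))))

theorem comm_eq (hn : ¬ S ≤ Subgroup.centralizer (Q : Set G)) : ⁅Q, S⁆ = Q := by
  by_contra hne
  refine hn ?_
  have hW : ⁅Q, S⁆ ≤ Q := commutator_le_left_of_le_normalizer h.hSQ
  have h1 := h.centralizes_proper hW hne (le_normalizer_commutator h.hSQ Subgroup.le_normalizer)
    (le_normalizer_commutator (Subgroup.zpowers_le.2 h.hxQ) (Subgroup.zpowers_le.2 h.hxS)
      (Subgroup.mem_zpowers x))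
  have h2 : ⁅⁅Q, S⁆, S⁆ = ⊥ := Subgroup.commutator_eq_bot_iff_le_centralizer.2 (Subgroup.le_centralizer_iff.1 h1)
  exact Subgroup.le_centralizer_iff.1 (Subgroup.commutator_eq_bot_iff_le_centralizer.1
    (commutator_eq_bot_of_commutator_commutator h.hSQ h.coprimeSQ h2))

theorem x_not_centralizes (hn : ¬ S ≤ Subgroup.centralizer (Q : Set G)) :
    ¬ ∀ u ∈ Q, x * u = u * x := by
  intro hx
  have hxQ' : Q ≤ Subgroup.centralizer (Subgroup.zpowers x : Set G) :=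
    CfsgLib.BG.FixedLine.le_centralizer_zpowers.2 hx
  have h1 : ⁅⁅Q, S⁆, Subgroup.zpowers x⁆ = ⊥ := Subgroup.commutator_eq_bot_iff_le_centralizer.2
    ((commutator_le_left_of_le_normalizer h.hSQ).trans hxQ')
  have h2 : ⁅⁅Subgroup.zpowers x, Q⁆, S⁆ = ⊥ := by
    rw [Subgroup.commutator_comm (Subgroup.zpowers x) Q, Subgroup.commutator_eq_bot_iff_le_centralizer.2 hxQ',
      Subgroup.commutator_bot_left]
  have h3 := Subgroup.commutator_commutator_eq_bot_of_rotate h2 h1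
  exact hn (h.hgen.trans (sup_le (Subgroup.commutator_eq_bot_iff_le_centralizer.1 h3) inf_le_right))

theorem frattini_props (hn : ¬ S ≤ Subgroup.centralizer (Q : Set G)) :
    ∃ Φ : Subgroup G, Φ ≤ Q ∧ Φ ≠ Q ∧ (∀ z ∈ Φ, ∀ u ∈ Q, z * u = u * z) ∧ S ≤ Subgroup.centralizer (Φ : Set G) ∧
      S ≤ Subgroup.normalizer (Φ : Set G) ∧ x ∈ Subgroup.normalizer (Φ : Set G) ∧
      Q ≤ Subgroup.normalizer (Φ : Set G) ∧
      (∀ u ∈ Q, u ^ q = 1) ∧ (∀ u ∈ Q, ∀ v ∈ Q, ⁅u, v⁆ ∈ Φ) ∧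
      (∀ A : Subgroup G, A ≤ Subgroup.normalizer (Q : Set G) → (Nat.card A).Coprime (Nat.card Q) →
        (∀ a ∈ A, ∀ u ∈ Q, a * u * a⁻¹ * u⁻¹ ∈ Φ) → A ≤ Subgroup.centralizer (Q : Set G)) := by
  haveI := Fact.mk h.hq
  set Φ := (frattini ↥Q).map Q.subtype with hΦ
  have hΦQ : Φ ≤ Q := Subgroup.map_subtype_le _
  have hQn := h.hQ.isNilpotent
  have hQ1 : Q ≠ ⊥ := fun e => hn (fun s _ u hu => by
    rw [e, SetLike.mem_coe, Subgroup.mem_bot] at hu
    rw [hu, one_mul, mul_one])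
  have hΦne : Φ ≠ Q := fun e => by
    have htop : frattini ↥Q = ⊤ := by
      apply Subgroup.map_injective Q.subtype_injective
      rw [← hΦ, e, ← MonoidHom.range_eq_map, Subgroup.range_subtype]
    haveI : Nontrivial Q := (Subgroup.nontrivial_iff_ne_bot Q).2 hQ1
    exact bot_ne_top (frattini_nongenerating (K := (⊥ : Subgroup Q)) (by rw [htop, sup_top_eq]))
  have hnorm : ∀ A : Subgroup G, A ≤ Subgroup.normalizer (Q : Set G) → A ≤ Subgroup.normalizer (Φ : Set G) :=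
    fun A hA => CfsgLib.PSolvable.le_normalizer_map_of_characteristic hA _
  have hSΦ := hnorm S h.hSQ
  have hxΦ : x ∈ Subgroup.normalizer (Φ : Set G) :=
    hnorm _ (Subgroup.zpowers_le.2 h.hxQ) (Subgroup.mem_zpowers x)
  have hQΦ : Q ≤ Subgroup.normalizer (Φ : Set G) := hnorm Q Subgroup.le_normalizer
  have hcΦ := h.centralizes_proper hΦQ hΦne hSΦ hxΦ
  have hcen := CfsgLib.BG.FixedLine.central_of_centralizes hQΦ (Subgroup.le_centralizer_iff.1 hcΦ) (h.comm_eq hn)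
  have hcf := CfsgLib.PSolvable.commutator_le_frattini (K := Q) h.hQ
  have hder : ∀ u ∈ Q, ∀ v ∈ Q, ⁅u, v⁆ ∈ Φ := fun u hu v hv =>
    ⟨⁅(⟨u, hu⟩ : Q), ⟨v, hv⟩⁆, hcf.1 (Subgroup.commutator_mem_commutator (Subgroup.mem_top _) (Subgroup.mem_top _)), rfl⟩
  have hpowmem : ∀ u ∈ Q, u ^ q ∈ Φ := fun u hu => ⟨(⟨u, hu⟩ : Q) ^ q, hcf.2 _, rfl⟩
  refine ⟨Φ, hΦQ, hΦne, hcen, hcΦ, hSΦ, hxΦ, hQΦ, ?_, hder, fun A hA hcop htr =>
    le_centralizer_of_frattini hA (hcop.coprime_dvd_right (frattini ↥Q).card_subgroup_dvd_card) htr⟩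
  -- exponent `q`
  have hmulpow : ∀ u ∈ Q, ∀ v ∈ Q, (u * v) ^ q = u ^ q * v ^ q := by
    intro u hu v hv
    have hc : ∀ n : ℕ, ⁅v, u ^ n⁆ = ⁅v, u⁆ ^ n := by
      intro n
      induction n with
      | zero => simp
      | succ n ih =>
        have hz := hcen _ (hder v hv u hu) (u ^ n) (Q.pow_mem hu n)
        calc ⁅v, u ^ (n + 1)⁆ = ⁅v, u ^ n⁆ * (u ^ n * ⁅v, u⁆ * (u ^ n)⁻¹) := by
              simp only [commutatorElement_def, pow_succ]; group
          _ = ⁅v, u ^ n⁆ * ⁅v, u⁆ := by rw [← hz, mul_inv_cancel_right]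
          _ = _ := by rw [ih, ← pow_succ]
    have key : ∀ n : ℕ, (u * v) ^ n = u ^ n * v ^ n * ⁅v, u⁆ ^ (n.choose 2) := by
      intro n
      induction n with
      | zero => simp
      | succ n ih =>
        have hzc : ∀ m : ℕ, ∀ w ∈ Q, ⁅v, u⁆ ^ m * w = w * ⁅v, u⁆ ^ m := fun m w hw =>
          ((show Commute ⁅v, u⁆ w from hcen _ (hder v hv u hu) w hw).pow_left m).eq
        have hswap : ∀ m : ℕ, v ^ m * u = u * v ^ m * ⁅v, u⁆ ^ m := by
          intro m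
          induction m with
          | zero => simp
          | succ m ihm =>
            calc v ^ (m + 1) * u = v ^ m * (⁅v, u⁆ * (u * v)) := by
                  simp only [commutatorElement_def, pow_succ]; group
              _ = v ^ m * ((u * v) * ⁅v, u⁆) := by
                  rw [← pow_one ⁅v, u⁆, hzc 1 _ (Q.mul_mem hu hv)]
              _ = v ^ m * u * (v * ⁅v, u⁆) := by simp only [mul_assoc]
              _ = u * v ^ m * ⁅v, u⁆ ^ m * (v * ⁅v, u⁆) := by rw [ihm]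
              _ = u * v ^ m * (⁅v, u⁆ ^ m * v) * ⁅v, u⁆ := by simp only [mul_assoc]
              _ = u * v ^ m * (v * ⁅v, u⁆ ^ m) * ⁅v, u⁆ := by rw [hzc m v hv]
              _ = u * v ^ (m + 1) * ⁅v, u⁆ ^ (m + 1) := by simp only [pow_succ, mul_assoc]
        calc (u * v) ^ (n + 1) = u ^ n * v ^ n * ⁅v, u⁆ ^ (n.choose 2) * (u * v) := by rw [pow_succ, ih]
          _ = u ^ n * v ^ n * ((u * v) * ⁅v, u⁆ ^ (n.choose 2)) := by
              rw [mul_assoc (u ^ n * v ^ n), hzc _ _ (Q.mul_mem hu hv)]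
          _ = u ^ n * (v ^ n * u) * (v * ⁅v, u⁆ ^ (n.choose 2)) := by simp only [mul_assoc]
          _ = u ^ n * (u * v ^ n * ⁅v, u⁆ ^ n) * (v * ⁅v, u⁆ ^ (n.choose 2)) := by rw [hswap]
          _ = u ^ n * u * v ^ n * (⁅v, u⁆ ^ n * v) * ⁅v, u⁆ ^ (n.choose 2) := by simp only [mul_assoc]
          _ = u ^ n * u * v ^ n * (v * ⁅v, u⁆ ^ n) * ⁅v, u⁆ ^ (n.choose 2) := by rw [hzc n v hv]
          _ = _ := by
              rw [show (n + 1).choose 2 = n + n.choose 2 by rw [Nat.choose_succ_succ', Nat.choose_one_right],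
                pow_add ⁅v, u⁆, pow_succ u n, pow_succ v n]
              simp only [mul_assoc]
    have hz1 : ⁅v, u⁆ ^ q = 1 := by
      rw [← hc q, commutatorElement_eq_one_iff_mul_comm, (hcen _ (hpowmem u hu) v hv)]
    obtain ⟨j, hj⟩ : q ∣ q.choose 2 :=
      h.hq.dvd_choose_self two_ne_zero (lt_of_le_of_ne h.hq.two_le h.hq2.symm)
    rw [key q, hj, pow_mul, hz1, one_pow, mul_one]
  let f : Q →* G :=
    { toFun := fun u => (u : G) ^ q
      map_one' := by simp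
      map_mul' := fun u v => hmulpow u u.2 v v.2 }
  have hle : ⁅Q, S⁆ ≤ f.ker.map Q.subtype := by
    refine Subgroup.commutator_le.2 fun u hu s hs => ?_
    have hmem : ⁅u, s⁆ ∈ Q := commutator_le_left_of_le_normalizer h.hSQ (Subgroup.commutator_mem_commutator hu hs)
    refine ⟨⟨_, hmem⟩, ?_, rfl⟩
    have hsu : s * u⁻¹ * s⁻¹ ∈ Q := conj_mem_of_le_normalizer (h.hSQ hs) _ (Q.inv_mem hu)
    show ⁅u, s⁆ ^ q = 1
    rw [show ⁅u, s⁆ = u * (s * u⁻¹ * s⁻¹) by rw [commutatorElement_def]; group, hmulpow u hu _ hsu,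
      show (s * u⁻¹ * s⁻¹) ^ q = s * u⁻¹ ^ q * s⁻¹ by rw [conj_pow]]
    have hfix := (hcΦ hs) (u⁻¹ ^ q) (hpowmem _ (Q.inv_mem hu))
    rw [← hfix, mul_inv_cancel_right, inv_pow, mul_inv_cancel]
  intro u hu
  obtain ⟨w, hw, hwe⟩ := ((h.comm_eq hn).ge.trans hle) hu
  rw [← hwe]
  exact hw

theorem abelian (hn : ¬ S ≤ Subgroup.centralizer (Q : Set G)) : ∀ u ∈ Q, ∀ v ∈ Q, u * v = v * u := by
  haveI := Fact.mk h.hq
  obtain ⟨Φ, hΦQ, hΦne, hcen, hcΦ, hSΦ, hxΦ, hQΦ, hexp, hder, htr⟩ := h.frattini_props hn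
  set X := Subgroup.zpowers x with hX
  have hXΦ : X ≤ Subgroup.normalizer (Φ : Set G) := Subgroup.zpowers_le.2 hxΦ
  by_cases hall : ∀ u ∈ Φ, x * u = u * x → u = 1
  · haveI : IsMulCommutative Φ := ⟨⟨fun a b => Subtype.ext (hcen a a.2 b (hΦQ b.2))⟩⟩
    have hcop : (Nat.card X).Coprime (Nat.card Φ) :=
      coprime_zpowers h.hq h.hr h.hqr (h.hQ.to_le hΦQ) h.hxr
    have h1 := commutator_sup_centralizer hXΦ hcop (Or.inl inferInstance)
    have h2 : Φ ⊓ Subgroup.centralizer (X : Set G) = ⊥ :=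
      (Subgroup.eq_bot_iff_forall _).2 fun u hu => hall u hu.1 (hu.2 x (Subgroup.mem_zpowers x))
    rw [h2, sup_bot_eq] at h1
    exact CfsgLib.BG.FixedLine.abelian_of_central_moved h.hV h.hr h.hpr h.hxr h.hxV h.hCV h.hQV
      (by
        obtain ⟨k, hk⟩ := h.hQ.exists_card_eq
        rw [hk]
        exact ((Nat.coprime_primes h.hq Fact.out).2 h.hpq.symm).pow_left k)
      h.hfaith hΦQ hcen hder hxΦ h1
  exfalso
  push Not at hall
  obtain ⟨z, hz, hzx, hz1⟩ := hall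
  have hfix : ∀ u ∈ Q, x * u = u * x → u ∈ Φ := by
    intro u hu he
    obtain ⟨c, hc⟩ := h.hCQ.exists_generator
    have hmem : ∀ w ∈ Q, x * w = w * x → w ∈ Subgroup.zpowers (c : G) := fun w hw hwx => by
      obtain ⟨i, hi⟩ := Subgroup.mem_zpowers_iff.1 (hc ⟨w, hw, fun t ht => by
        rw [Set.mem_singleton_iff] at ht; subst ht; exact hwx⟩)
      exact ⟨i, by simpa using congrArg Subtype.val hi⟩
    have heq : Subgroup.zpowers z = Subgroup.zpowers (c : G) := by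
      refine Subgroup.eq_of_le_of_card_ge (Subgroup.zpowers_le.2 (hmem z (hΦQ hz) hzx)) ?_
      rw [Nat.card_zpowers, Nat.card_zpowers, orderOf_eq_prime (hexp z (hΦQ hz)) hz1]
      exact Nat.le_of_dvd h.hq.pos (orderOf_dvd_of_pow_eq_one (hexp c c.2.1))
    exact (Subgroup.zpowers_le.2 hz) (heq.ge (hmem u hu he))
  have htriv := commutator_trivial_mod (q := q) h.hp2 h.hr h.hpq h.hpr h.hqr h.hQ h.hS h.hxr hΦQ hQΦ hSΦ hxΦ h.hSQ
    h.hxQ h.hxS (fun u hu => by rw [hexp u hu]; exact Φ.one_mem) hder hfix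
  refine hn (h.hgen.trans (sup_le ?_ inf_le_right))
  let F : Subgroup G :=
    { carrier := {g | g ∈ Subgroup.normalizer (Q : Set G) ∧ g ∈ Subgroup.normalizer (Φ : Set G) ∧
        ∀ u ∈ Q, g * u * g⁻¹ * u⁻¹ ∈ Φ}
      one_mem' := ⟨one_mem _, one_mem _, fun u _ => by simp⟩
      mul_mem' := fun {a b} ha hb => ⟨mul_mem ha.1 hb.1, mul_mem ha.2.1 hb.2.1, fun u hu => by
        have h1 := ha.2.2 _ (conj_mem_of_le_normalizer hb.1 u hu)
        have h2 := hb.2.2 u hu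
        have := Φ.mul_mem h1 h2
        convert this using 1; group⟩
      inv_mem' := fun {a} ha => ⟨inv_mem ha.1, inv_mem ha.2.1, fun u hu => by
        have := Φ.inv_mem (ha.2.2 _ (conj_mem_of_le_normalizer (inv_mem ha.1) u hu))
        convert this using 1; group⟩ }
  have hxs : ∀ s ∈ S, ∀ i : ℕ, ⁅x ^ i, s⁆ ∈ F := by
    intro s hs i
    induction i generalizing s with
    | zero => simp
    | succ i ih =>
      have h1 : ⁅x, s⁆ ∈ F := by
        refine ⟨?_, ?_, fun u hu => htriv s hs u hu⟩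
        · exact mul_mem (mul_mem (mul_mem h.hxQ (h.hSQ hs)) (inv_mem h.hxQ)) (inv_mem (h.hSQ hs))
        · exact mul_mem (mul_mem (mul_mem hxΦ (hSΦ hs)) (inv_mem hxΦ)) (inv_mem (hSΦ hs))
      have hs' : x * s * x⁻¹ ∈ S := conj_mem_of_le_normalizer h.hxS s hs
      rw [show ⁅x ^ (i + 1), s⁆ = ⁅x ^ i, x * s * x⁻¹⁆ * ⁅x, s⁆ by
        simp only [commutatorElement_def, pow_succ]; group]
      exact mul_mem (ih _ hs') h1
  have hsub : ⁅S, X⁆ ≤ F := by
    refine Subgroup.commutator_le.2 fun s hs g hg => ?_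
    obtain ⟨i, rfl⟩ := (isOfFinOrder_of_finite x).mem_powers_iff_mem_zpowers.2 hg
    rw [← commutatorElement_inv]
    exact inv_mem (hxs s hs i)
  have hXS : X ≤ Subgroup.normalizer (S : Set G) := Subgroup.zpowers_le.2 h.hxS
  exact htr _ ((commutator_le_left_of_le_normalizer hXS).trans h.hSQ)
    (h.coprimeSQ.coprime_dvd_left (Subgroup.card_dvd_of_le (commutator_le_left_of_le_normalizer hXS)))
    fun a ha => (hsub ha).2.2

theorem fixed_centralizes (hn : ¬ S ≤ Subgroup.centralizer (Q : Set G)) :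
    ∀ s ∈ S, x * s = s * x → ∀ u ∈ Q, s * u = u * s := by
  haveI := Fact.mk h.hq
  have hab := h.abelian hn
  haveI : IsMulCommutative Q := ⟨⟨fun a b => Subtype.ext (hab a a.2 b b.2)⟩⟩
  set X := Subgroup.zpowers x with hX
  set N := Subgroup.normalizer (Q : Set G) with hN
  set φ := autHom Q with hφ
  set S' := (S.subgroupOf N).map φ with hS'
  set x' := φ ⟨x, h.hxQ⟩ with hx'
  have hS'p : IsPGroup p S' := (h.hS.of_equiv (Subgroup.subgroupOfEquivOfLe h.hSQ).symm).map φ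
  have hx'r : x' ^ r = 1 := by
    rw [hx', ← map_pow, show (⟨x, h.hxQ⟩ : N) ^ r = 1 from Subtype.ext h.hxr, map_one]
  have hx'S : ∀ s ∈ S', x' * s * x'⁻¹ ∈ S' := by
    rintro _ ⟨s, hs, rfl⟩
    exact ⟨⟨x, h.hxQ⟩ * s * ⟨x, h.hxQ⟩⁻¹, conj_mem_of_le_normalizer h.hxS _ hs,
      by rw [map_mul, map_mul, map_inv]⟩
  have hgen' : ⁅S', Subgroup.zpowers x'⁆ = S' := by
    refine le_antisymm (commutator_le_left_of_le_normalizer (CfsgLib.BG.FixedLine.zpowers_le_normalizer hx'S)) ?_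
    rintro _ ⟨s, hs, rfl⟩
    let F : Subgroup G := ((⁅S', Subgroup.zpowers x'⁆).comap φ).map N.subtype
    have hle : ⁅S, X⁆ ⊔ (S ⊓ Subgroup.centralizer (Q : Set G)) ≤ F := by
      refine sup_le (Subgroup.commutator_le.2 fun t ht g hg => ?_) fun t ht => ?_
      · have hgN : g ∈ N := (Subgroup.zpowers_le.2 h.hxQ) hg
        refine ⟨⁅(⟨t, h.hSQ ht⟩ : N), ⟨g, hgN⟩⁆, ?_, rfl⟩
        show φ ⁅(⟨t, h.hSQ ht⟩ : N), ⟨g, hgN⟩⁆ ∈ ⁅S', Subgroup.zpowers x'⁆
        rw [map_commutatorElement]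
        refine Subgroup.commutator_mem_commutator ⟨_, ht, rfl⟩ ?_
        obtain ⟨i, rfl⟩ := Subgroup.mem_zpowers_iff.1 hg
        exact ⟨i, by show φ ⟨x, h.hxQ⟩ ^ i = φ _; rw [← map_zpow]; congr 1⟩
      · refine ⟨⟨t, h.hSQ ht.1⟩, ?_, rfl⟩
        show φ ⟨t, h.hSQ ht.1⟩ ∈ ⁅S', Subgroup.zpowers x'⁆
        rw [autHom_eq_one_iff.2 ht.2]
        exact one_mem _
    obtain ⟨w, hw, hwe⟩ := hle (h.hgen hs)
    have : w = s := Subtype.ext hwe
    exact this ▸ hw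
  set D := ⁅S', S'⁆ with hD
  haveI := hS'p.isNilpotent
  by_cases hS'1 : S' = ⊥
  · intro s hs _ u hu
    have : φ ⟨s, h.hSQ hs⟩ ∈ S' := ⟨_, hs, rfl⟩
    rw [hS'1, Subgroup.mem_bot, autHom_eq_one_iff] at this
    exact (this u hu).symm
  have hDlt : D < S' := commutator_lt_of_isNilpotent (X := S') le_rfl le_rfl Subgroup.le_normalizer hS'1
  have hDx : ∀ d ∈ D, x' * d * x'⁻¹ ∈ D := conj_mem_of_le_normalizer
    (le_normalizer_commutator (CfsgLib.BG.FixedLine.zpowers_le_normalizer hx'S)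
      (CfsgLib.BG.FixedLine.zpowers_le_normalizer hx'S) (Subgroup.mem_zpowers x'))
  have hDcent : D ≤ Subgroup.centralizer (Subgroup.zpowers x' : Set (MulAut Q)) := by
    set T := (D.comap φ).map N.subtype ⊓ S with hT
    have hxT : x ∈ Subgroup.normalizer (T : Set G) := mem_normalizer_of_conj fun t ht => by
      obtain ⟨⟨w, hw, hwe⟩, htS⟩ := ht
      refine ⟨⟨⟨x, h.hxQ⟩ * w * ⟨x, h.hxQ⟩⁻¹, ?_, by rw [← hwe]; rfl⟩, conj_mem_of_le_normalizer h.hxS t htS⟩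
      show φ (⟨x, h.hxQ⟩ * w * ⟨x, h.hxQ⟩⁻¹) ∈ D
      rw [map_mul, map_mul, map_inv]
      exact hDx _ hw
    have hTne : T ⊔ (S ⊓ Subgroup.centralizer (Q : Set G)) ≠ S := by
      intro e
      refine hDlt.ne (le_antisymm hDlt.le ?_)
      rintro _ ⟨s, hs, rfl⟩
      have hle : T ⊔ (S ⊓ Subgroup.centralizer (Q : Set G)) ≤ (D.comap φ).map N.subtype :=
        sup_le inf_le_left fun t ht => ⟨⟨t, h.hSQ ht.1⟩, by
          show φ ⟨t, h.hSQ ht.1⟩ ∈ D
          rw [autHom_eq_one_iff.2 ht.2]; exact one_mem _, rfl⟩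
      obtain ⟨w, hw, hwe⟩ := hle (e.ge hs)
      have : w = s := Subtype.ext hwe
      exact this ▸ hw
    have hTc := h.hTprop T inf_le_right hxT hTne
    refine CfsgLib.BG.FixedLine.le_centralizer_zpowers.2 fun d hd => ?_
    obtain ⟨t, ht, rfl⟩ := hDlt.le hd
    have htT : (t : G) ∈ T := ⟨⟨t, hd, rfl⟩, ht⟩
    have h1 : φ ⁅t, (⟨x, h.hxQ⟩ : N)⁆ = 1 := autHom_eq_one_iff.2
      (hTc (Subgroup.commutator_mem_commutator htT (Subgroup.mem_zpowers x)))
    rw [map_commutatorElement, commutatorElement_eq_one_iff_mul_comm] at h1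
    exact h1.symm
  have hDcen : ∀ d ∈ D, ∀ t ∈ S', d * t = t * d := CfsgLib.BG.FixedLine.central_of_centralizes
    (le_normalizer_commutator Subgroup.le_normalizer Subgroup.le_normalizer) hDcent hgen'
  intro s hs hxs
  set s' := φ ⟨s, h.hSQ hs⟩ with hs'
  have hs'S : s' ∈ S' := ⟨_, hs, rfl⟩
  have hs'x : x' * s' = s' * x' := by
    rw [hx', hs', ← map_mul, ← map_mul]; congr 1; exact Subtype.ext hxs
  have hs'c := hDcen s' (CfsgLib.BG.FixedLine.fixed_le_commutator h.hr Fact.out h.hpr hx'r hS'p hx'S hgen' hs'S hs'x)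
  have hXQ : X ≤ Subgroup.normalizer (Q : Set G) := Subgroup.zpowers_le.2 h.hxQ
  obtain ⟨k, hk⟩ := h.hS ⟨s, hs⟩
  have hsk : s ^ p ^ k = 1 := congrArg Subtype.val hk
  have hl := CfsgLib.BG.FixedLine.line_centralizes h.hodd h.hV h.hp2 h.hr h.hr2 h.hpr h.hq h.hq2 h.hpq h.hqr
    h.hxr hxs.symm hsk h.hxV (h.hSV hs) h.hCV h.hQ h.hQV h.hxQ (h.hSQ hs) h.hfaith h.hCQ
  set W := Q ⊓ Subgroup.centralizer ({s} : Set G) with hW
  intro u hu
  by_cases hWQ : W = Q
  · exact ((hWQ.ge hu).2 s rfl)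
  exfalso
  have hSW : S ≤ Subgroup.normalizer (W : Set G) := fun t ht => mem_normalizer_of_conj fun w hw => by
    refine ⟨conj_mem_of_le_normalizer (h.hSQ ht) w hw.1, fun y hy => ?_⟩
    rw [Set.mem_singleton_iff] at hy
    rw [hy]
    have e := hs'c (φ ⟨t, h.hSQ ht⟩) ⟨_, ht, rfl⟩
    have e2 := congrArg Subtype.val (DFunLike.congr_fun e ⟨w, hw.1⟩)
    simp only [hs', hφ, autHom, MulAut.mul_apply, CfsgLib.Coprime.coe_conjAct] at e2
    have hsw : s * w = w * s := hw.2 s rfl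
    rw [show s * w * s⁻¹ = w by rw [hsw, mul_inv_cancel_right]] at e2
    exact mul_inv_eq_iff_eq_mul.1 e2
  have hxW : x ∈ Subgroup.normalizer (W : Set G) := mem_normalizer_of_conj fun w hw => by
    refine ⟨conj_mem_of_le_normalizer h.hxQ w hw.1, fun y hy => ?_⟩
    rw [Set.mem_singleton_iff] at hy
    rw [hy]
    have hsw : Commute s w := hw.2 s rfl
    exact ((show Commute s x from hxs.symm).mul_right hsw).mul_right (show Commute s x from hxs.symm).inv_right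
  have hSc := h.centralizes_proper inf_le_left hWQ hSW hxW
  refine h.x_not_centralizes hn fun v hv => ?_
  -- `[Q, x]` is centralized by `S`, hence trivial
  have hQX : ⁅Q, X⁆ ≤ W := fun w hw => ⟨commutator_le_left_of_le_normalizer hXQ hw, fun y hy => by
    rw [Set.mem_singleton_iff] at hy; rw [hy]; exact hl w hw⟩
  have hQS := h.comm_eq hn
  have hbot : ⁅Q, X⁆ = ⊥ := by
    rw [eq_bot_iff]
    intro w hw
    have h3 := centralizer_inf_commutator_eq_bot h.hSQ h.coprimeSQ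
    rw [hQS] at h3
    have : w ∈ Q ⊓ Subgroup.centralizer (S : Set G) ⊓ Q :=
      ⟨⟨(hQX hw).1, fun t ht => (hSc ht w (hQX hw)).symm⟩, (hQX hw).1⟩
    rwa [h3] at this
  exact CfsgLib.BG.FixedLine.le_centralizer_zpowers.1 (Subgroup.commutator_eq_bot_iff_le_centralizer.1 hbot) v hv

theorem centralizes : S ≤ Subgroup.centralizer (Q : Set G) := by
  haveI := Fact.mk h.hq
  by_contra hn
  refine hn (CfsgLib.BG.FixedLine.frobenius_centralizes h.hV h.hp2 h.hr h.hr2 h.hpr h.hxr h.hxV h.hCV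
    (h.abelian hn) ?_ h.hQV h.hfaith h.hS h.hSV h.hSQ h.hxQ h.hxS (h.comm_eq hn) (h.fixed_centralizes hn))
  obtain ⟨k, hk⟩ := h.hQ.exists_card_eq
  rw [hk]
  exact ((Nat.coprime_primes h.hq Fact.out).2 h.hpq.symm).pow_left k

end HardSetting

end CfsgLib.BG.PLengthHall
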