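import Cfsg.Agent.Lib.BG.PLengthHall.Setting

/-!
The layers `L_q` above `V` and their Sylow pairs.
-/

set_option autoImplicit false
set_option linter.style.haveILetI false
set_option linter.unusedSectionVars false

open scoped commutatorElement
open scoped Pointwise

namespace CfsgLib.BG.PLengthHall

open CfsgLib.Coprime
open CfsgLib.OddLocal (opOf)
open CfsgLib.BG.FixedLine (conj_mem_of_le_normalizer mem_normalizer_of_conj coprime_zpowers)

universe u

variable {G : Type u} [Group G] [Finite G]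

instance normalQuo (V : Subgroup G) : (V.subgroupOf (Subgroup.normalizer (V : Set G))).Normal :=
  Subgroup.normal_in_normalizer

/-- The projection `N(V) → N(V)/V`. -/
abbrev proj' (V : Subgroup G) :
    Subgroup.normalizer (V : Set G) →* Subgroup.normalizer (V : Set G) ⧸ V.subgroupOf (Subgroup.normalizer (V : Set G)) :=
  QuotientGroup.mk' _

/-- The image of a subgroup in `N(V)/V`. -/
abbrev img (V A : Subgroup G) :
    Subgroup (Subgroup.normalizer (V : Set G) ⧸ V.subgroupOf (Subgroup.normalizer (V : Set G))) :=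
  (A.subgroupOf (Subgroup.normalizer (V : Set G))).map (proj' V)

theorem proj'_eq_one {V : Subgroup G} (g : Subgroup.normalizer (V : Set G)) : proj' V g = 1 ↔ (g : G) ∈ V := by
  rw [QuotientGroup.mk'_apply, QuotientGroup.eq_one_iff, Subgroup.mem_subgroupOf]

theorem img_eq_bot_iff {V A : Subgroup G} (hA : A ≤ Subgroup.normalizer (V : Set G)) :
    img V A = ⊥ ↔ A ≤ V := by
  rw [Subgroup.map_eq_bot_iff]
  constructor
  · intro h a ha
    exact (proj'_eq_one ⟨a, hA ha⟩).1 (h (show (⟨a, hA ha⟩ : Subgroup.normalizer (V : Set G)) ∈ A.subgroupOf _ from ha))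
  · intro h a ha
    exact (proj'_eq_one a).2 (h ha)

/-- `L_q`: the preimage of `O_q(H/V)`. -/
def layer (V H : Subgroup G) (q : ℕ) : Subgroup G :=
  ((opOf q (img V H)).comap (proj' V)).map (Subgroup.normalizer (V : Set G)).subtype

theorem mem_layer {V H : Subgroup G} {q : ℕ} {g : G} :
    g ∈ layer V H q ↔ ∃ hg : g ∈ Subgroup.normalizer (V : Set G), proj' V ⟨g, hg⟩ ∈ opOf q (img V H) := by
  constructor
  · rintro ⟨w, hw, rfl⟩; exact ⟨w.2, hw⟩
  · rintro ⟨hg, h⟩; exact ⟨⟨g, hg⟩, h, rfl⟩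

namespace Setting

variable {p : ℕ} {H R R₀ V : Subgroup G} (h : Setting p H R R₀ V)

include h

theorem V_le_layer (q : ℕ) : V ≤ layer V H q := fun v hv => mem_layer.2
  ⟨Subgroup.le_normalizer hv, by rw [(proj'_eq_one (⟨v, Subgroup.le_normalizer hv⟩ :
    Subgroup.normalizer (V : Set G))).2 hv]; exact one_mem _⟩

theorem layer_le (q : ℕ) : layer V H q ≤ H := by
  intro g hg
  obtain ⟨hgN, hg'⟩ := mem_layer.1 hg
  obtain ⟨w, hw, hwe⟩ := CfsgLib.OddLocal.piCoreOf_le _ _ hg'
  have h1 : proj' V (w⁻¹ * ⟨g, hgN⟩) = 1 := by rw [map_mul, map_inv, hwe, inv_mul_cancel]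
  have h2 := h.hVH ((proj'_eq_one _).1 h1)
  have := H.mul_mem hw h2
  simpa using this

theorem mem_normalizer_layer {q : ℕ} {g : G} (hgV : g ∈ Subgroup.normalizer (V : Set G))
    (hgH : g ∈ Subgroup.normalizer (H : Set G)) : g ∈ Subgroup.normalizer (layer V H q : Set G) := by
  refine mem_normalizer_of_conj fun l hl => ?_
  obtain ⟨hlN, hl'⟩ := mem_layer.1 hl
  refine mem_layer.2 ⟨mul_mem (mul_mem hgV hlN) (inv_mem hgV), ?_⟩
  have hn : proj' V ⟨g, hgV⟩ ∈ Subgroup.normalizer (opOf q (img V H) :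
      Set (Subgroup.normalizer (V : Set G) ⧸ V.subgroupOf (Subgroup.normalizer (V : Set G)))) := by
    refine CfsgLib.OddLocal.piCoreOf_normalizer_le _ _ (mem_normalizer_of_conj ?_)
    rintro _ ⟨w, hw, rfl⟩
    exact ⟨_, conj_mem_of_le_normalizer hgH _ hw, by rw [← map_inv, ← map_mul, ← map_mul]⟩
  have := conj_mem_of_le_normalizer hn _ hl'
  rw [← map_inv, ← map_mul, ← map_mul] at this
  exact this

theorem H_le_normalizer_layer (q : ℕ) : H ≤ Subgroup.normalizer (layer V H q : Set G) :=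
  fun _ hg => h.mem_normalizer_layer (h.hHV hg) (Subgroup.le_normalizer hg)

theorem R_le_normalizer_layer (q : ℕ) : R ≤ Subgroup.normalizer (layer V H q : Set G) :=
  fun _ hg => h.mem_normalizer_layer (h.hRV hg) (h.hRH hg)

theorem relIndex_layer {q : ℕ} (hq : q.Prime) : ∃ j, V.relIndex (layer V H q) = q ^ j := by
  haveI := Fact.mk hq
  set N := Subgroup.normalizer (V : Set G)
  obtain ⟨j, hj⟩ := (CfsgLib.OddLocal.isPGroup_opOf hq (img V H)).exists_card_eq
  refine ⟨j, ?_⟩
  have h1 : layer V H q ≤ N := Subgroup.map_subtype_le _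
  rw [← hj, ← Subgroup.relIndex_subgroupOf h1]
  have h2 : (layer V H q).subgroupOf N = (opOf q (img V H)).comap (proj' V) := by
    rw [layer, Subgroup.subgroupOf, Subgroup.comap_map_eq_self_of_injective N.subtype_injective]
  have hk : (proj' V).ker = V.subgroupOf N := QuotientGroup.ker_mk' _
  have h3 := Subgroup.relIndex_ker (K := (opOf q (img V H)).comap (proj' V)) (f := proj' V)
  rw [hk, Subgroup.map_comap_eq_self_of_surjective (QuotientGroup.mk'_surjective _)] at h3
  rw [h2]
  exact h3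

theorem opOf_img_eq_bot : opOf p (img V H) = ⊥ := by
  haveI := Fact.mk h.hp
  set N := Subgroup.normalizer (V : Set G)
  have hW : layer V H p ≤ V := by
    refine h.hVmax _ (h.layer_le p) (h.H_le_normalizer_layer p) ?_
    obtain ⟨j, hj⟩ := h.relIndex_layer h.hp
    obtain ⟨k, hk⟩ := h.isPGroup_V.exists_card_eq
    refine IsPGroup.of_card (n := k + j) ?_
    rw [pow_add, ← hk, ← hj, Subgroup.relIndex, ← Subgroup.card_mul_index (V.subgroupOf (layer V H p)),
      Nat.card_congr (Subgroup.subgroupOfEquivOfLe (h.V_le_layer p)).toEquiv]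
  rw [eq_bot_iff]
  intro w hw
  obtain ⟨g, rfl⟩ := QuotientGroup.mk'_surjective _ w
  rw [Subgroup.mem_bot]
  exact (proj'_eq_one g).2 (hW (mem_layer.2 ⟨g.2, hw⟩))

/-- A `p`-subgroup centralizing every layer modulo `V` lies in `V`. -/
theorem le_V_of_centralizes_layers {X : Subgroup G} (hXH : X ≤ H) (hX : IsPGroup p X)
    (hc : ∀ q : ℕ, q.Prime → q ≠ p → ∀ s ∈ X, ∀ l ∈ layer V H q, ⁅s, l⁆ ∈ V) : X ≤ V := by
  set N := Subgroup.normalizer (V : Set G)
  haveI := Fact.mk h.hp
  have hXN : X ≤ N := hXH.trans h.hHV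
  rw [← img_eq_bot_iff hXN, eq_bot_iff, ← h.opOf_img_eq_bot]
  have hsol : Group.IsSolvable (img V H) := by
    haveI := h.hsol
    haveI : Group.IsSolvable (H.subgroupOf N) :=
      solvable_of_solvable_injective (f := (Subgroup.subgroupOfEquivOfLe h.hHV).toMonoidHom)
        (Subgroup.subgroupOfEquivOfLe h.hHV).injective
    exact solvable_of_surjective ((proj' V).subgroupMap_surjective _)
  rintro _ ⟨s, hs, rfl⟩
  have hF : proj' V s ∈ Cfsg.fittingOf (img V H) := by
    refine CfsgLib.OddLocal.inf_centralizer_fittingOf_le hsol ⟨⟨s, hXH hs, rfl⟩, ?_⟩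
    have hle : Cfsg.fittingOf (img V H) ≤ Subgroup.centralizer ({proj' V s} :
        Set (N ⧸ V.subgroupOf N)) := by
      refine CfsgLib.OddLocal.fittingOf_le_of fun q hq => ?_
      by_cases hqp : q = p
      · rw [hqp, h.opOf_img_eq_bot]; exact bot_le
      intro w hw
      obtain ⟨g, rfl⟩ := QuotientGroup.mk'_surjective _ w
      intro t ht
      rw [Set.mem_singleton_iff] at ht
      rw [ht]
      refine (commutatorElement_eq_one_iff_mul_comm).1 ?_
      rw [← map_commutatorElement]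
      exact (proj'_eq_one _).2 (hc q hq hqp s hs g (mem_layer.2 ⟨g.2, hw⟩))
    exact fun w hw => (hle hw _ rfl).symm
  obtain ⟨k, hk⟩ := hX ⟨s, hs⟩
  refine CfsgLib.OddLocal.mem_opOf_of_mem_fittingOf h.hp hF (k := k) ?_
  rw [← map_pow]
  exact (proj'_eq_one _).2 (by
    have hsk : ((s : G)) ^ p ^ k = 1 := by
      have := congrArg Subtype.val hk
      simpa using this
    simp only [SubgroupClass.coe_pow, hsk, one_mem])

/-- The Sylow pair of a layer. -/
theorem exists_pair {q : ℕ} (hq : q.Prime) (hqp : q ≠ p) :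
    ∃ Q S : Subgroup G, IsPGroup q Q ∧ Q ≤ H ∧ R ≤ Subgroup.normalizer (Q : Set G) ∧
      Q ⊓ Subgroup.centralizer (V : Set G) = ⊥ ∧ layer V H q = V ⊔ Q ∧
      IsPGroup p S ∧ S ≤ H ∧ S ≤ Subgroup.normalizer (Q : Set G) ∧ R ≤ Subgroup.normalizer (S : Set G) ∧
      ¬ p ∣ (S ⊔ V).relIndex H := by
  haveI := Fact.mk h.hp
  haveI := Fact.mk hq
  set L := layer V H q with hL
  have hLH := h.layer_le q
  have hcopH : (Nat.card R).Coprime (Nat.card H) := h.hcop.symm
  haveI := h.hsol
  have hsolL : Group.IsSolvable L := solvable_of_solvable_injective (Subgroup.inclusion_injective hLH)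
  obtain ⟨Q₀, hQ₀⟩ := exists_invariant_sylow (p := q) (h.R_le_normalizer_layer q)
    (hcopH.coprime_dvd_right (Subgroup.card_dvd_of_le hLH)) (Or.inr hsolL)
  set Q := (Q₀ : Subgroup L).map L.subtype with hQdef
  have hQL : Q ≤ L := Subgroup.map_subtype_le _
  have hQp : IsPGroup q Q := Q₀.2.map _
  have hVL := h.V_le_layer q
  obtain ⟨j, hj⟩ := h.relIndex_layer hq
  obtain ⟨k, hk⟩ := h.isPGroup_V.exists_card_eq
  have hLV : L ≤ Subgroup.normalizer (V : Set G) := hLH.trans h.hHV
  have hLcard : Nat.card L = p ^ k * q ^ j := by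
    rw [← hj, ← hk, Subgroup.relIndex, ← Subgroup.card_mul_index (V.subgroupOf L),
      Nat.card_congr (Subgroup.subgroupOfEquivOfLe hVL).toEquiv]
  have hQcard : Nat.card Q = q ^ j := by
    rw [hQdef, Subgroup.card_subtype, Q₀.card_eq_multiplicity, hLcard,
      Nat.factorization_mul (pow_ne_zero _ h.hp.ne_zero) (pow_ne_zero _ hq.ne_zero), Finsupp.add_apply,
      h.hp.factorization_pow, hq.factorization_pow]
    simp [Finsupp.single_apply, hqp.symm]
  have hVQ : V ⊓ Q = ⊥ := inf_eq_bot_of_coprime_card (by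
    rw [hk, hQcard]; exact ((Nat.coprime_primes h.hp hq).2 hqp.symm).pow _ _)
  have hVQL : L = V ⊔ Q := by
    refine (Subgroup.eq_of_le_of_card_ge (sup_le hVL hQL) ?_).symm
    have := card_sup_mul_card_inf (K := V) (S := Q) (hQL.trans hLV)
    rw [hVQ, Subgroup.card_bot, mul_one] at this
    rw [this, hLcard, hk, hQcard]
  have hfaith : Q ⊓ Subgroup.centralizer (V : Set G) = ⊥ := by
    rw [eq_bot_iff, ← hVQ]
    exact fun u hu => ⟨h.hCV ⟨hLH (hQL hu.1), hu.2⟩, hu.1⟩
  set NH := H ⊓ Subgroup.normalizer (Q : Set G) with hNH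
  have hRNH : R ≤ Subgroup.normalizer (NH : Set G) :=
    le_normalizer_inf_of_le h.hRH (fun g hg => mem_normalizer_of_conj fun w hw => by
      have hgQ := hQ₀ hg
      exact mul_mem (mul_mem hgQ hw) (inv_mem hgQ))
  have hsolN : Group.IsSolvable NH := solvable_of_solvable_injective (Subgroup.inclusion_injective inf_le_left)
  obtain ⟨S₀, hS₀⟩ := exists_invariant_sylow (p := p) hRNH
    (hcopH.coprime_dvd_right (Subgroup.card_dvd_of_le inf_le_left)) (Or.inr hsolN)
  set S := (S₀ : Subgroup NH).map NH.subtype with hSdef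
  have hSN : S ≤ NH := Subgroup.map_subtype_le _
  refine ⟨Q, S, hQp, hQL.trans hLH, hQ₀, hfaith, hVQL, S₀.2.map _, hSN.trans inf_le_left,
    hSN.trans inf_le_right, hS₀, ?_⟩
  -- Frattini: `H = V N_H(Q)`
  have hfr : V ⊔ NH = H := by
    refine le_antisymm (sup_le h.hVH inf_le_left) fun g hg => ?_
    haveI : (L.subgroupOf H).Normal := Subgroup.normal_subgroupOf_of_le_normalizer (h.H_le_normalizer_layer q)
    have hgQ : MulAut.conj g • Q ≤ L := by
      intro w hw
      rw [mem_conj_smul_iff] at hw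
      have := conj_mem_of_le_normalizer (h.H_le_normalizer_layer q hg) _ (hQL hw)
      simpa [mul_assoc] using this
    have hcard' : Nat.card ((MulAut.conj g • Q).subgroupOf L) = q ^ (Nat.card L).factorization q := by
      rw [Nat.card_congr (Subgroup.subgroupOfEquivOfLe hgQ).toEquiv, card_conj_smul, hQdef,
        Subgroup.card_subtype, Q₀.card_eq_multiplicity]
    obtain ⟨l, hl⟩ := MulAction.exists_smul_eq L Q₀ (Sylow.ofCard _ hcard')
    have hle : MulAut.conj (l : G) • Q = MulAut.conj g • Q := by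
      rw [hQdef, ← map_subtype_conj_smul_sylow l Q₀, hl, Sylow.coe_ofCard, ← hQdef,
        Subgroup.map_subgroupOf_eq_of_le hgQ]
    have hn : (l : G)⁻¹ * g ∈ NH := by
      refine ⟨H.mul_mem (H.inv_mem (hLH l.2)) hg, ?_⟩
      show _ ∈ Subgroup.normalizer (Q : Set G)
      rw [mem_normalizer_iff_conj_smul, map_mul, mul_smul, ← hle, ← mul_smul, ← map_mul,
        inv_mul_cancel, map_one, one_smul]
    have hlV : (l : G) ∈ V ⊔ NH := by
      have hQN : Q ≤ NH := le_inf (hQL.trans hLH) Subgroup.le_normalizer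
      exact (sup_le_sup_left hQN V) (hVQL.le l.2)
    have := mul_mem hlV (Subgroup.mem_sup_right (S := V) hn)
    simpa using this
  intro hd
  have hSV : S ⊔ V ≤ H := sup_le (hSN.trans inf_le_left) h.hVH
  have e1 := card_sup_mul_card_inf (K := V) (S := NH) (inf_le_left.trans h.hHV)
  rw [hfr] at e1
  have e2 := card_sup_mul_card_inf (K := V) (S := S) ((hSN.trans inf_le_left).trans h.hHV)
  have hinf : V ⊓ S = V ⊓ NH := by
    refine le_antisymm (inf_le_inf_left _ hSN) (le_inf inf_le_left fun v hv => ?_)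
    haveI : ((V ⊓ NH).subgroupOf NH).Normal := Subgroup.normal_subgroupOf_of_le_normalizer
      (le_normalizer_inf_of_le (inf_le_left.trans h.hHV) Subgroup.le_normalizer)
    have hp' : IsPGroup p ((V ⊓ NH).subgroupOf NH) :=
      (h.isPGroup_V.to_le inf_le_left).of_equiv (Subgroup.subgroupOfEquivOfLe inf_le_right).symm
    exact ⟨_, IsPGroup.le_sylow_of_normal hp' S₀ (show (⟨v, hv.2⟩ : NH) ∈ _ from hv), rfl⟩
  rw [sup_comm] at hd
  have e3 : Nat.card H = Nat.card ↥(V ⊔ S) * (V ⊔ S).relIndex H := by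
    rw [Subgroup.relIndex, ← Subgroup.card_mul_index ((V ⊔ S).subgroupOf H),
      Nat.card_congr (Subgroup.subgroupOfEquivOfLe (sup_comm S V ▸ hSV)).toEquiv]
  have e4 : Nat.card NH = Nat.card S * S.relIndex NH := by
    rw [Subgroup.relIndex, ← Subgroup.card_mul_index (S.subgroupOf NH),
      Nat.card_congr (Subgroup.subgroupOfEquivOfLe hSN).toEquiv]
  have hidx : ¬ p ∣ S.relIndex NH := by
    rw [Subgroup.relIndex, hSdef, Subgroup.subgroupOf,
      Subgroup.comap_map_eq_self_of_injective NH.subtype_injective]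
    exact S₀.not_dvd_index
  refine hidx (Eq.subst (motive := fun n => p ∣ n) ?_ hd)
  have hpos : 0 < Nat.card V * Nat.card S := Nat.mul_pos Nat.card_pos Nat.card_pos
  refine Nat.eq_of_mul_eq_mul_left hpos ?_
  calc Nat.card V * Nat.card S * (V ⊔ S).relIndex H
      = Nat.card ↥(V ⊔ S) * Nat.card ↥(V ⊓ S) * (V ⊔ S).relIndex H := by rw [e2]
    _ = Nat.card H * Nat.card ↥(V ⊓ S) := by rw [e3]; ring
    _ = Nat.card V * Nat.card NH := by rw [hinf, e1]
    _ = Nat.card V * Nat.card S * S.relIndex NH := by rw [e4]; ring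

end Setting

end CfsgLib.BG.PLengthHall
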