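import Cfsg.Agent.Lib.BG.PLengthHall.CaseBig
import Cfsg.Agent.Lib.BG.PLengthHall.CasePrime

/-!
BG 3.6.
-/

set_option autoImplicit false
set_option linter.style.haveILetI false
set_option linter.unusedSectionVars false

open scoped commutatorElement
open scoped Pointwise

namespace CfsgLib.BG.PLengthHall

open CfsgLib.Coprime
open CfsgLib.OddLocal (opOf)
open CfsgLib.BG.FixedLine (conj_mem_of_le_normalizer mem_normalizer_of_conj)

universe u

variable {G : Type u} [Group G] [Finite G]

theorem Setting.not_dvd {p : ℕ} {H R R₀ V : Subgroup G} (h : Setting p H R R₀ V) : ¬ p ∣ V.relIndex H := by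
  by_cases e : R = R₀
  · exact h.not_dvd_of_eq e
  · exact h.not_dvd_of_centralizes fun q Q S hP => h.pair_centralizes_of_ne e hP

/-- The induction step through a quotient. -/
theorem quotient_step {p : ℕ} (n : ℕ)
    (IH : ∀ m, m < n → ∀ (G : Type u) [Group G] [Finite G] (H R R₀ : Subgroup G),
      Nat.card H + Nat.card R = m → Hyp H R R₀ → Cfsg.PLengthLE p 1 ↥⁅H, R⁆)
    {H R R₀ : Subgroup G} (hn : Nat.card H + Nat.card R = n) (h : Hyp H R R₀) (hcomm : ⁅H, R⁆ = H)
    {Nn : Subgroup G} (hNH : Nn ≤ H) (hHN : H ≤ Subgroup.normalizer (Nn : Set G))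
    (hRN : R ≤ Subgroup.normalizer (Nn : Set G)) (hne : Nn ≠ ⊥) :
    ∃ (Q : Type u) (_ : Group Q) (g : H →* Q), Function.Surjective g ∧ g.ker = Nn.subgroupOf H ∧
      Cfsg.PLengthLE p 1 Q := by
  set X := Subgroup.normalizer (Nn : Set G)
  haveI : (Nn.subgroupOf X).Normal := Subgroup.normal_in_normalizer
  set f := QuotientGroup.mk' (Nn.subgroupOf X) with hf
  set H' := H.subgroupOf X with hH'
  set R' := R.subgroupOf X with hR'
  set R₀' := R₀.subgroupOf X with hR₀'
  have hR₀X : R₀ ≤ X := h.hR₀.trans hRN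
  have hcard' : ∀ {A : Subgroup G}, A ≤ X → Nat.card (A.subgroupOf X) = Nat.card A := fun hA =>
    Nat.card_congr (Subgroup.subgroupOfEquivOfLe hA).toEquiv
  have hR'H' : R' ≤ Subgroup.normalizer (H' : Set X) := fun w hw =>
    mem_normalizer_of_conj fun v hv => conj_mem_of_le_normalizer (h.hRH hw) _ hv
  haveI hsolH' : Group.IsSolvable H' := by
    haveI := h.hsol
    exact solvable_of_solvable_injective (f := (Subgroup.subgroupOfEquivOfLe hHN).toMonoidHom)
      (Subgroup.subgroupOfEquivOfLe hHN).injective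
  have hcardH : Nat.card (H'.map f) < Nat.card H := by
    have h3 := Subgroup.relIndex_ker (K := H') (f := f)
    rw [hf, QuotientGroup.ker_mk', ← hf, hH', Subgroup.relIndex_subgroupOf hHN] at h3
    rw [hH', ← h3]
    have hmul : Nat.card Nn * Nn.relIndex H = Nat.card H := by
      rw [Subgroup.relIndex, ← Subgroup.card_mul_index (Nn.subgroupOf H),
        Nat.card_congr (Subgroup.subgroupOfEquivOfLe hNH).toEquiv]
    have hN1 : 2 ≤ Nat.card Nn := by
      have h1 : 0 < Nat.card Nn := Nat.card_pos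
      have h2 : Nat.card Nn ≠ 1 := fun e => hne (Subgroup.card_eq_one.1 e)
      omega
    have hpos : 0 < Nn.relIndex H := Nat.pos_of_ne_zero fun e => by
      rw [e, mul_zero] at hmul
      exact Nat.card_pos.ne hmul
    nlinarith
  have hle : ∀ (A : Subgroup X), Nat.card (A.map f) ≤ Nat.card A := fun A =>
    Nat.le_of_dvd Nat.card_pos (Subgroup.card_map_dvd _ f)
  have hyp : Hyp (H'.map f) (R'.map f) (R₀'.map f) := by
    refine ⟨?_, ?_, ?_, ?_, Subgroup.map_mono (fun w hw => h.hR₀ hw), ?_, ?_⟩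
    · exact Odd.of_dvd_nat (Odd.of_dvd_nat h.hodd X.card_subgroup_dvd_card) (Subgroup.card_quotient_dvd_card _)
    · exact solvable_of_surjective (f.subgroupMap_surjective H')
    · exact (Subgroup.map_mono hR'H').trans (Subgroup.le_normalizer_map f)
    · exact Nat.Coprime.coprime_dvd_left ((Subgroup.card_map_dvd _ f).trans (hcard' hHN).dvd)
        (h.hcop.coprime_dvd_right ((Subgroup.card_map_dvd _ f).trans (hcard' hRN).dvd))
    · have hd : Nat.card (R₀'.map f) ∣ Nat.card R₀ := (Subgroup.card_map_dvd _ f).trans (hcard' hR₀X).dvd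
      rcases (Nat.dvd_prime h.hR₀p).1 hd with h1 | h1
      · exfalso
        rw [Subgroup.card_eq_one, Subgroup.map_eq_bot_iff, hf, QuotientGroup.ker_mk'] at h1
        have h2 : R₀ ≤ H ⊓ R := le_inf (fun w hw => hNH (h1 (show (⟨w, hR₀X hw⟩ : X) ∈ R₀' from hw))) h.hR₀
        rw [inf_eq_bot_of_coprime_card h.hcop, le_bot_iff] at h2
        exact h.hR₀p.ne_one (by rw [h2, Subgroup.card_bot])
      · rw [h1]; exact h.hR₀p
    · haveI := h.hZ
      have hcop' : (Nat.card R₀').Coprime (Nat.card H') := by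
        rw [hcard' hR₀X, hcard' hHN]
        exact (h.hcop.coprime_dvd_right (Subgroup.card_dvd_of_le h.hR₀)).symm
      have hR₀'H' : R₀' ≤ Subgroup.normalizer (H' : Set X) := le_trans (fun w hw => h.hR₀ hw) hR'H'
      rw [← map_inf_centralizer hR₀'H' hcop' (Or.inr hsolH') f]
      set C := H' ⊓ Subgroup.centralizer (R₀' : Set X)
      let i : C →* ↥(H ⊓ Subgroup.centralizer (R₀ : Set G)) :=
        { toFun := fun w => ⟨((w : X) : G), w.2.1, fun y hy => congrArg Subtype.val (w.2.2 ⟨y, hR₀X hy⟩ hy)⟩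
          map_one' := rfl
          map_mul' := fun _ _ => rfl }
      haveI : IsZGroup C := IsZGroup.of_injective (f := i) fun a b e =>
        Subtype.ext (Subtype.ext (congrArg (fun w : ↥(H ⊓ Subgroup.centralizer (R₀ : Set G)) => (w : G)) e))
      exact IsZGroup.of_surjective (f.subgroupMap_surjective C)
  have hlt : Nat.card (H'.map f) + Nat.card (R'.map f) < n := by
    have h1 := hle R'
    rw [hcard' hRN] at h1
    omega
  have hIH := IH _ hlt (X ⧸ Nn.subgroupOf X) (H'.map f) (R'.map f) (R₀'.map f) rfl hyp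
  have hcommY : ⁅H'.map f, R'.map f⁆ = H'.map f := by
    rw [← Subgroup.map_commutator]
    congr 1
    refine Subgroup.map_injective X.subtype_injective ?_
    rw [Subgroup.map_commutator, Subgroup.map_subgroupOf_eq_of_le hHN, Subgroup.map_subgroupOf_eq_of_le hRN, hcomm]
  rw [hcommY] at hIH
  refine ⟨↥(H'.map f), inferInstance,
    (f.subgroupMap H').comp (Subgroup.subgroupOfEquivOfLe hHN).symm.toMonoidHom,
    (f.subgroupMap_surjective H').comp (Subgroup.subgroupOfEquivOfLe hHN).symm.surjective, ?_, hIH⟩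
  ext w
  rw [MonoidHom.mem_ker, Subgroup.mem_subgroupOf, MonoidHom.comp_apply, Subtype.ext_iff, MonoidHom.subgroupMap_apply_coe,
    OneMemClass.coe_one, hf, QuotientGroup.mk'_apply, QuotientGroup.eq_one_iff, Subgroup.mem_subgroupOf]
  rfl

theorem pLengthLE_one_aux (p : ℕ) (hp : p.Prime) : ∀ (n : ℕ) (G : Type u) [Group G] [Finite G] (H R R₀ : Subgroup G),
    Nat.card H + Nat.card R = n → Hyp H R R₀ → Cfsg.PLengthLE p 1 ↥⁅H, R⁆ := by
  haveI := Fact.mk hp
  intro n
  induction n using Nat.strong_induction_on with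
  | _ n IH =>
  intro G _ _ H R R₀ hn h
  have hLH : ⁅H, R⁆ ≤ H := commutator_le_left_of_le_normalizer h.hRH
  by_cases hcomm : ⁅H, R⁆ = H
  swap
  · have hlt : Nat.card ↥⁅H, R⁆ < Nat.card H := lt_of_le_of_ne
      (Nat.le_of_dvd Nat.card_pos (Subgroup.card_dvd_of_le hLH))
      fun e => hcomm (Subgroup.eq_of_le_of_card_ge hLH e.ge)
    have hyp : Hyp ⁅H, R⁆ R R₀ := ⟨h.hodd, isSolvable_of_le hLH h.hsol,
      le_normalizer_commutator h.hRH Subgroup.le_normalizer,
      h.hcop.coprime_dvd_left (Subgroup.card_dvd_of_le hLH), h.hR₀, h.hR₀p, by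
        haveI := h.hZ
        exact IsZGroup.of_injective (f := Subgroup.inclusion (inf_le_inf_right _ hLH)) (Subgroup.inclusion_injective _)⟩
    have := IH _ (hn ▸ Nat.add_lt_add_right hlt _) G ⁅H, R⁆ R R₀ rfl hyp
    rwa [commutator_commutator_eq h.hRH h.hcop.symm (Or.inr h.hsol)] at this
  rw [hcomm]
  have hsolH := h.hsol
  haveI := CfsgLib.Transfer.pPrimeCore_normal p H
  haveI := CfsgLib.Fitting.pCore_normal (G := H) p
  by_cases hO : Cfsg.pPrimeCore p H = ⊥
  swap
  · set Nn := (Cfsg.pPrimeCore p H).map H.subtype with hNn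
    have hHN : H ≤ Subgroup.normalizer (Nn : Set G) :=
      CfsgLib.PSolvable.le_normalizer_map_of_characteristic Subgroup.le_normalizer _
    have hRN : R ≤ Subgroup.normalizer (Nn : Set G) :=
      CfsgLib.PSolvable.le_normalizer_map_of_characteristic h.hRH _
    obtain ⟨Q, iQ, g, hg, hker, hQ⟩ := quotient_step n IH hn h hcomm (Subgroup.map_subtype_le _) hHN hRN
      (fun e => hO ((Subgroup.map_eq_bot_iff_of_injective _ H.subtype_injective).1 e))
    refine pLengthLE_one_of_surjective g hg ?_ hQ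
    rw [hker, Subgroup.subgroupOf, Subgroup.comap_map_eq_self_of_injective H.subtype_injective]
    exact CfsgLib.Transfer.pPrimeCore_coprime p
  by_cases hpH : p ∣ Nat.card H
  swap
  · exact pLengthLE_one_of_not_dvd fun hd => hpH (hd.trans (Subgroup.index_dvd_card _))
  set V := opOf p H with hVdef
  have hVeq : V = (Cfsg.pCore p H).map H.subtype := CfsgLib.OddLocal.opOf_eq hp H
  have hVH : V ≤ H := CfsgLib.OddLocal.piCoreOf_le _ _
  have hHV : H ≤ Subgroup.normalizer (V : Set G) :=
    Subgroup.le_normalizer.trans (CfsgLib.OddLocal.piCoreOf_normalizer_le _ _)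
  have hRV : R ≤ Subgroup.normalizer (V : Set G) := h.hRH.trans (CfsgLib.OddLocal.piCoreOf_normalizer_le _ _)
  have hVp : IsPGroup p V := CfsgLib.OddLocal.isPGroup_opOf hp H
  have hVH' : V.subgroupOf H = Cfsg.pCore p H := by
    rw [hVeq, Subgroup.subgroupOf, Subgroup.comap_map_eq_self_of_injective H.subtype_injective]
  have hCV : H ⊓ Subgroup.centralizer (V : Set G) ≤ V := by
    intro w hw
    have := CfsgLib.PSolvable.centralizer_pCore_le (CfsgLib.PSolvable.isPSolvable_of_isSolvable hsolH) hO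
      (show (⟨w, hw.1⟩ : H) ∈ Subgroup.centralizer (Cfsg.pCore p H : Set H) from fun y hy =>
        Subtype.ext (hw.2 y (by rw [hVeq]; exact ⟨y, hy, rfl⟩)))
    rw [hVeq]; exact ⟨_, this, rfl⟩
  set Φ := (frattini ↥V).map V.subtype with hΦdef
  have hΦV : Φ ≤ V := Subgroup.map_subtype_le _
  by_cases hΦ : Φ = ⊥
  swap
  · have hHΦ : H ≤ Subgroup.normalizer (Φ : Set G) := CfsgLib.PSolvable.le_normalizer_map_of_characteristic hHV _
    have hRΦ : R ≤ Subgroup.normalizer (Φ : Set G) := CfsgLib.PSolvable.le_normalizer_map_of_characteristic hRV _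
    obtain ⟨Q, iQ, g, hg, hker, hQ⟩ := quotient_step n IH hn h hcomm (hΦV.trans hVH) hHΦ hRΦ hΦ
    haveI : Finite Q := Finite.of_surjective g hg
    haveI := CfsgLib.Transfer.pPrimeCore_normal p Q
    haveI := CfsgLib.Fitting.pCore_normal (G := Q) p
    have hkerp : IsPGroup p g.ker := by
      rw [hker]
      exact ((hVp.to_le hΦV).of_equiv (Subgroup.subgroupOfEquivOfLe (hΦV.trans hVH)).symm)
    set D := (Cfsg.pPrimeCore p Q).comap g with hD
    have hDdata : ∀ d ∈ D, (orderOf d).Coprime p → d = 1 := by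
      intro d hd hco
      have hdC : (d : G) ∈ Subgroup.centralizer (V : Set G) := by
        refine le_centralizer_of_frattini (A := Subgroup.zpowers (d : G)) (K := V)
          (Subgroup.zpowers_le.2 (hHV d.2)) ?_ ?_ (Subgroup.mem_zpowers _)
        · obtain ⟨k, hk⟩ := (hVp.to_subgroup (frattini ↥V)).exists_card_eq
          rw [hk, Nat.card_zpowers, Subgroup.orderOf_coe]
          exact hco.pow_right k
        · intro a ha v hv
          obtain ⟨i, rfl⟩ := Subgroup.mem_zpowers_iff.1 ha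
          have hvV : (⟨v, hVH hv⟩ : H) ∈ Cfsg.pCore p H := hVH' ▸ (show (⟨v, hVH hv⟩ : H) ∈ V.subgroupOf H from hv)
          have h1 : g ⁅d ^ i, ⟨v, hVH hv⟩⁆ ∈ Cfsg.pPrimeCore p Q ⊓ Cfsg.pCore p Q := by
            rw [map_commutatorElement]
            have ha : g (d ^ i) ∈ Cfsg.pPrimeCore p Q := Subgroup.mem_comap.1 (hD ▸ zpow_mem hd i)
            have hb : g ⟨v, hVH hv⟩ ∈ Cfsg.pCore p Q :=
              CfsgLib.Fitting.le_pCore ((CfsgLib.Fitting.pCore_normal (G := H) p).map g hg)
                ((CfsgLib.Fitting.pCore_isPGroup p).map g) (Subgroup.mem_map_of_mem g hvV)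
            exact ⟨Subgroup.commutator_le_left _ _ (Subgroup.commutator_mem_commutator ha hb),
              Subgroup.commutator_le_right _ _ (Subgroup.commutator_mem_commutator ha hb)⟩
          have hbot : Cfsg.pPrimeCore p Q ⊓ Cfsg.pCore p Q = ⊥ := inf_eq_bot_of_coprime_card (by
            obtain ⟨k, hk⟩ := (CfsgLib.Fitting.pCore_isPGroup (G := Q) p).exists_card_eq
            rw [hk]
            exact (CfsgLib.Transfer.pPrimeCore_coprime p).pow_right k)
          rw [hbot, Subgroup.mem_bot, ← MonoidHom.mem_ker, hker, Subgroup.mem_subgroupOf] at h1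
          have e : ((⁅d ^ i, ⟨v, hVH hv⟩⁆ : H) : G) = (d : G) ^ i * v * ((d : G) ^ i)⁻¹ * v⁻¹ := rfl
          exact e ▸ h1
      have hdV : (d : G) ∈ V := hCV ⟨d.2, hdC⟩
      obtain ⟨k, hk⟩ := IsPGroup.iff_orderOf.mp hVp ⟨_, hdV⟩
      rw [Subgroup.orderOf_mk, Subgroup.orderOf_coe] at hk
      rw [← orderOf_eq_one_iff]
      exact Nat.eq_one_of_dvd_coprimes (hco.pow_right k) dvd_rfl (hk ▸ dvd_rfl)
    have hDp : IsPGroup p D := by
      refine IsPGroup.iff_orderOf.mpr fun d => ?_
      obtain ⟨i, -, -, -, hco, -⟩ := CfsgLib.Transfer.exists_pow_coprime_part (p := p) (d : H)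
      have h1 := hDdata _ (D.pow_mem d.2 (p ^ i)) hco
      obtain ⟨j, _, hj⟩ := (Nat.dvd_prime_pow hp).1 (orderOf_dvd_of_pow_eq_one h1)
      exact ⟨j, by rw [← Subgroup.orderOf_coe]; exact hj⟩
    have hOQ : Cfsg.pPrimeCore p Q = ⊥ := by
      have h1 : IsPGroup p (D.map g) := hDp.map g
      rw [hD, Subgroup.map_comap_eq_self_of_surjective hg] at h1
      obtain ⟨k, hk⟩ := h1.exists_card_eq
      rw [← Subgroup.card_eq_one]
      exact Nat.eq_one_of_dvd_coprimes (CfsgLib.Transfer.pPrimeCore_coprime p |>.pow_right k) dvd_rfl (hk ▸ dvd_rfl)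
    have hidx := not_dvd_index_pCore hQ hOQ
    refine pLengthLE_one_of_not_dvd fun hd => hidx (hd.trans ?_)
    rw [← Subgroup.index_comap_of_surjective (Cfsg.pCore p Q) hg]
    refine Subgroup.index_dvd_of_le (CfsgLib.Fitting.le_pCore (Subgroup.Normal.comap inferInstance g) ?_)
    exact (CfsgLib.Fitting.pCore_isPGroup p).comap_of_ker_isPGroup g hkerp
  have hΦ' : frattini ↥V = ⊥ := (Subgroup.map_eq_bot_iff_of_injective _ V.subtype_injective).1 hΦ
  have hcf := CfsgLib.PSolvable.commutator_le_frattini hVp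
  rw [hΦ'] at hcf
  have hV : Cfsg.IsElementaryAbelian p V := by
    refine ⟨⟨⟨fun a b => ?_⟩⟩, fun a ha => ?_⟩
    · have := hcf.1 (show ⁅a, b⁆ ∈ commutator V by
        rw [commutator_def]; exact Subgroup.commutator_mem_commutator (Subgroup.mem_top a) (Subgroup.mem_top b))
      rwa [Subgroup.mem_bot, commutatorElement_eq_one_iff_mul_comm] at this
    · exact congrArg Subtype.val (Subgroup.mem_bot.1 (hcf.2 ⟨a, ha⟩))
  have hs : Setting p H R R₀ V :=
    { toHyp := h, hcomm := hcomm, hp := hp, hpH := hpH, hV := hV, hVH := hVH, hHV := hHV, hRV := hRV, hCV := hCV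
      hVmax := fun W hWH hHW hW w hw => by
        have hn' : (W.subgroupOf H).Normal := Subgroup.normal_subgroupOf_of_le_normalizer hHW
        have := CfsgLib.Fitting.le_pCore hn' (hW.of_equiv (Subgroup.subgroupOfEquivOfLe hWH).symm)
          (show (⟨w, hWH hw⟩ : H) ∈ W.subgroupOf H from hw)
        rw [← hVH'] at this
        exact this
      hIH := fun H' R' R₀' _ _ hlt hh => IH _ (hn ▸ hlt) G H' R' R₀' rfl hh }
  refine pLengthLE_one_of_not_dvd fun hd => hs.not_dvd ?_
  rwa [Subgroup.relIndex, hVH']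

/-- BG 3.6. -/
theorem pLengthLE_one {p : ℕ} (hp : p.Prime) {H R R₀ : Subgroup G} (h : Hyp H R R₀) :
    Cfsg.PLengthLE p 1 ↥⁅H, R⁆ := pLengthLE_one_aux p hp _ G H R R₀ rfl h

end CfsgLib.BG.PLengthHall
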