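import Cfsg.Agent.Lib.BG.PLengthHall.Hard
import Cfsg.Agent.Lib.BG.PLengthHall.Basic
import Cfsg.Agent.Lib.OddLocal.Cores

/-!
BG 3.6 after the reductions: `V = O_p(H)` elementary abelian and self-centralizing.
-/

set_option autoImplicit false
set_option linter.style.haveILetI false
set_option linter.unusedSectionVars false

open scoped commutatorElement

namespace CfsgLib.BG.PLengthHall

open CfsgLib.Coprime
open CfsgLib.OddLocal (opOf)
open CfsgLib.BG.FixedLine (conj_mem_of_le_normalizer mem_normalizer_of_conj coprime_zpowers)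

universe u

variable {G : Type u} [Group G] [Finite G]

/-- The hypotheses of BG 3.6. -/
structure Hyp (H R R₀ : Subgroup G) : Prop where
  hodd : Odd (Nat.card G)
  hsol : Group.IsSolvable H
  hRH : R ≤ Subgroup.normalizer (H : Set G)
  hcop : (Nat.card H).Coprime (Nat.card R)
  hR₀ : R₀ ≤ R
  hR₀p : (Nat.card R₀).Prime
  hZ : IsZGroup ↥(H ⊓ Subgroup.centralizer (R₀ : Set G))

/-- The reduced situation. -/
structure Setting (p : ℕ) (H R R₀ V : Subgroup G) : Prop extends Hyp H R R₀ where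
  hcomm : ⁅H, R⁆ = H
  hp : p.Prime
  hpH : p ∣ Nat.card H
  hV : Cfsg.IsElementaryAbelian p V
  hVH : V ≤ H
  hHV : H ≤ Subgroup.normalizer (V : Set G)
  hRV : R ≤ Subgroup.normalizer (V : Set G)
  hCV : H ⊓ Subgroup.centralizer (V : Set G) ≤ V
  hVmax : ∀ W : Subgroup G, W ≤ H → H ≤ Subgroup.normalizer (W : Set G) → IsPGroup p W → W ≤ V
  hIH : ∀ H' R' R₀' : Subgroup G, H' ≤ H → R' ≤ R →
    Nat.card H' + Nat.card R' < Nat.card H + Nat.card R → Hyp H' R' R₀' → Cfsg.PLengthLE p 1 ↥⁅H', R'⁆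

theorem exists_gen_of_prime {R₀ : Subgroup G} (h : (Nat.card R₀).Prime) :
    ∃ x ∈ R₀, R₀ = Subgroup.zpowers x ∧ x ^ Nat.card R₀ = 1 := by
  haveI := Fact.mk h
  haveI : IsCyclic R₀ := isCyclic_of_prime_card (p := Nat.card R₀) rfl
  obtain ⟨g, hg⟩ := IsCyclic.exists_generator (α := R₀)
  refine ⟨g, g.2, le_antisymm (fun y hy => ?_) (Subgroup.zpowers_le.2 g.2),
    congrArg Subtype.val (pow_card_eq_one' (x := g))⟩
  obtain ⟨i, hi⟩ := Subgroup.mem_zpowers_iff.1 (hg ⟨y, hy⟩)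
  exact ⟨i, congrArg Subtype.val hi⟩

/-- A `p`-subgroup lies in a normalized subgroup of `p'`-index above it. -/
theorem le_of_not_dvd_relIndex {p : ℕ} [Fact p.Prime] {K L X : Subgroup G} (hLK : L ≤ Subgroup.normalizer (K : Set G))
    (hXL : X ≤ L) (hX : IsPGroup p X) (hidx : ¬ p ∣ K.relIndex L) : X ≤ K := by
  intro y hy
  haveI : (K.subgroupOf L).Normal := Subgroup.normal_subgroupOf_of_le_normalizer hLK
  have h1 : orderOf (QuotientGroup.mk (⟨y, hXL hy⟩ : L) : L ⧸ K.subgroupOf L) ∣ K.relIndex L := by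
    rw [Subgroup.relIndex, Subgroup.index]
    exact orderOf_dvd_natCard _
  obtain ⟨k, hk⟩ := hX ⟨y, hy⟩
  have hk' : (⟨y, hXL hy⟩ : L) ^ p ^ k = 1 := Subtype.ext (by
    have := congrArg Subtype.val hk
    simpa using this)
  have h2 : orderOf (QuotientGroup.mk (⟨y, hXL hy⟩ : L) : L ⧸ K.subgroupOf L) ∣ p ^ k :=
    orderOf_dvd_of_pow_eq_one (by rw [← QuotientGroup.mk_pow, hk', QuotientGroup.mk_one])
  have h3 := Nat.eq_one_of_dvd_coprimes
    (((Fact.out : p.Prime).coprime_iff_not_dvd.2 hidx).pow_left k) h2 h1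
  rw [orderOf_eq_one_iff, QuotientGroup.eq_one_iff, Subgroup.mem_subgroupOf] at h3
  exact h3

namespace Setting

variable {p : ℕ} {H R R₀ V : Subgroup G} (h : Setting p H R R₀ V)

include h

theorem hp2 : p ≠ 2 := fun e => Nat.not_even_iff_odd.2 h.hodd
  (even_iff_two_dvd.2 (e ▸ h.hpH.trans H.card_subgroup_dvd_card))

theorem prime_R₀_facts : Nat.card R₀ ≠ 2 ∧ Nat.card R₀ ≠ p ∧ ∀ q, q ∣ Nat.card H → q ≠ Nat.card R₀ := by
  have hd : Nat.card R₀ ∣ Nat.card R := Subgroup.card_dvd_of_le h.hR₀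
  have hq : ∀ q, q ∣ Nat.card H → q ≠ Nat.card R₀ := fun q hq e =>
    h.hR₀p.ne_one (Nat.eq_one_of_dvd_coprimes h.hcop (e ▸ hq) hd)
  exact ⟨fun e => Nat.not_even_iff_odd.2 h.hodd (even_iff_two_dvd.2 (e ▸ R₀.card_subgroup_dvd_card)),
    fun e => hq p h.hpH e.symm, hq⟩

theorem isPGroup_V : IsPGroup p V := fun v => ⟨1, Subtype.ext (by simpa using h.hV.2 v v.2)⟩

/-- A `p`-length one normal piece has its `p`-subgroups in a normal `p`-subgroup. -/
theorem exists_pgroup_above {L M : Subgroup G} (hLH : L ≤ H) (hVL : V ≤ L) (hML : M ≤ L)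
    (hLM : L ≤ Subgroup.normalizer (M : Set G)) (hM : Cfsg.PLengthLE p 1 ↥M) :
    ∃ W : Subgroup G, IsPGroup p W ∧ W ≤ M ∧ L ≤ Subgroup.normalizer (W : Set G) ∧
      ∀ X : Subgroup G, X ≤ M → IsPGroup p X → X ≤ W := by
  haveI := Fact.mk h.hp
  set N := (Cfsg.pPrimeCore p ↥M).map M.subtype with hN
  have hNM : N ≤ M := Subgroup.map_subtype_le _
  have hLN : L ≤ Subgroup.normalizer (N : Set G) := CfsgLib.PSolvable.le_normalizer_map_of_characteristic hLM _
  have hNV : N ⊓ V = ⊥ := by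
    refine inf_eq_bot_of_coprime_card ?_
    obtain ⟨k, hk⟩ := h.isPGroup_V.exists_card_eq
    rw [hk, hN, Subgroup.card_subtype]
    exact (CfsgLib.Transfer.pPrimeCore_coprime p).pow_right k
  have hNbot : N = ⊥ := by
    rw [eq_bot_iff]
    intro n hn
    have hnC : n ∈ H ⊓ Subgroup.centralizer (V : Set G) := by
      refine ⟨hLH (hML (hNM hn)), fun v hv => ?_⟩
      have h1 : ⁅n, v⁆ ∈ N ⊓ V := ⟨?_, ?_⟩
      · rw [hNV, Subgroup.mem_bot, commutatorElement_eq_one_iff_mul_comm] at h1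
        exact h1.symm
      · rw [show ⁅n, v⁆ = n * (v * n⁻¹ * v⁻¹) by rw [commutatorElement_def]; group]
        exact mul_mem hn (conj_mem_of_le_normalizer (hLN (hVL hv)) _ (inv_mem hn))
      · rw [show ⁅n, v⁆ = (n * v * n⁻¹) * v⁻¹ by rw [commutatorElement_def]]
        exact V.mul_mem (conj_mem_of_le_normalizer (h.hHV (hLH (hML (hNM hn)))) v hv) (V.inv_mem hv)
    exact hNV.le ⟨hn, h.hCV hnC⟩
  have hO : Cfsg.pPrimeCore p ↥M = ⊥ := by
    rw [hN, Subgroup.map_eq_bot_iff_of_injective _ M.subtype_injective] at hNbot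
    exact hNbot
  have hidx := not_dvd_index_pCore hM hO
  refine ⟨opOf p M, CfsgLib.OddLocal.isPGroup_opOf h.hp M, CfsgLib.OddLocal.piCoreOf_le _ _,
    hLM.trans (CfsgLib.OddLocal.piCoreOf_normalizer_le _ _), fun X hXM hX => ?_⟩
  refine le_of_not_dvd_relIndex (CfsgLib.OddLocal.le_normalizer_piCoreOf _ M) hXM hX ?_
  rw [CfsgLib.OddLocal.opOf_eq h.hp, Subgroup.relIndex, Subgroup.subgroupOf,
    Subgroup.comap_map_eq_self_of_injective M.subtype_injective]
  exact hidx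

/-- The largest normal subgroup of `p'`-order modulo `V`. -/
theorem exists_M : ∃ M : Subgroup G, V ≤ M ∧ M ≤ H ∧ H ≤ Subgroup.normalizer (M : Set G) ∧
    R ≤ Subgroup.normalizer (M : Set G) ∧ ¬ p ∣ V.relIndex M ∧
    ∀ A : Subgroup G, A ≤ H → H ≤ Subgroup.normalizer (A : Set G) → ¬ p ∣ V.relIndex (V ⊔ A) → A ≤ M := by
  haveI := Fact.mk h.hp
  set P : Subgroup G → Prop := fun A => V ≤ A ∧ A ≤ H ∧ H ≤ Subgroup.normalizer (A : Set G) ∧ ¬ p ∣ V.relIndex A
  obtain ⟨M, ⟨hVM, hMH, hHM, hidx⟩, hmax⟩ := Set.Finite.exists_maximal (s := {A | P A}) (Set.toFinite _)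
    ⟨V, le_rfl, h.hVH, h.hHV, by rw [Subgroup.relIndex_self]; exact h.hp.not_dvd_one⟩
  have hjoin : ∀ A, P A → A ≤ M := by
    intro A hA
    have hP : P (M ⊔ A) := by
      refine ⟨hVM.trans le_sup_left, sup_le hMH hA.2.1, le_normalizer_sup_of_le hHM hA.2.2.1, ?_⟩
      rw [← Subgroup.relIndex_mul_relIndex V M (M ⊔ A) hVM le_sup_left,
        relIndex_sup_of_le_normalizer (hA.2.1.trans hHM), h.hp.dvd_mul, not_or]
      exact ⟨hidx, fun hd => hA.2.2.2 (hd.trans (Subgroup.relIndex_dvd_of_le_left A hVM))⟩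
    exact le_sup_right.trans (hmax hP le_sup_left)
  refine ⟨M, hVM, hMH, hHM, fun g hg => mem_normalizer_of_conj fun m hm => ?_, hidx,
    fun A hAH hHA hA => le_sup_right.trans (hjoin (V ⊔ A)
      ⟨le_sup_left, sup_le h.hVH hAH, le_normalizer_sup_of_le h.hHV hHA, hA⟩)⟩
  have hPg : P (M.map (MulAut.conj g).toMonoidHom) := by
    have hgV : V.map (MulAut.conj g).toMonoidHom = V := conj_smul_eq_self_of_mem_normalizer (h.hRV hg)
    have hgH : H.map (MulAut.conj g).toMonoidHom = H := conj_smul_eq_self_of_mem_normalizer (h.hRH hg)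
    refine ⟨hgV ▸ Subgroup.map_mono hVM, hgH ▸ Subgroup.map_mono hMH, ?_, ?_⟩
    · rw [← hgH]
      refine le_trans (Subgroup.map_mono hHM) ?_
      exact Subgroup.le_normalizer_map _
    · rwa [← hgV, Subgroup.relIndex_map_map_of_injective _ _ (MulAut.conj g).injective]
  exact hjoin _ hPg (Subgroup.mem_map_of_mem _ hm)

theorem pGroup_le_V {M : Subgroup G} (hMH : M ≤ H) (hidx : ¬ p ∣ V.relIndex M) {X : Subgroup G}
    (hXM : X ≤ M) (hX : IsPGroup p X) : X ≤ V := by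
  haveI := Fact.mk h.hp
  exact le_of_not_dvd_relIndex (hMH.trans h.hHV) hXM hX hidx

theorem cyclic_fixed {W : Subgroup G} {q : ℕ} (hq : q.Prime) (hW : IsPGroup q W) (hWH : W ≤ H) {x : G}
    (hx : R₀ = Subgroup.zpowers x) :
    IsCyclic ↥(W ⊓ Subgroup.centralizer ({x} : Set G)) := by
  haveI := Fact.mk hq
  refine isCyclic_of_le_zGroup (p := q) h.hZ ?_ (hW.to_le inf_le_left)
  exact inf_le_inf hWH fun w hw => by
    intro g hg
    rw [hx] at hg
    obtain ⟨i, rfl⟩ := Subgroup.mem_zpowers_iff.1 hg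
    exact ((show Commute x w from hw x rfl).zpow_left i).eq

theorem cyclic_fixed_conj {W : Subgroup G} {q : ℕ} (hq : q.Prime) (hW : IsPGroup q W) (hWH : W ≤ H)
    {x g : G} (hx : R₀ = Subgroup.zpowers x) (hg : g ∈ R) :
    IsCyclic ↥(W ⊓ Subgroup.centralizer ({g * x * g⁻¹} : Set G)) := by
  have hgH := h.hRH hg
  have hWc : IsPGroup q (W.map (MulAut.conj g⁻¹).toMonoidHom) := hW.map _
  have hWcH : W.map (MulAut.conj g⁻¹).toMonoidHom ≤ H := by
    rintro _ ⟨w, hw, rfl⟩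
    exact conj_mem_of_le_normalizer (inv_mem hgH) w (hWH hw)
  haveI := h.cyclic_fixed hq hWc hWcH hx
  let f : ↥(W ⊓ Subgroup.centralizer ({g * x * g⁻¹} : Set G)) →*
      ↥(W.map (MulAut.conj g⁻¹).toMonoidHom ⊓ Subgroup.centralizer ({x} : Set G)) :=
    { toFun := fun w => ⟨g⁻¹ * (w : G) * g, ⟨w, w.2.1, by simp⟩, fun y hy => by
        rw [Set.mem_singleton_iff] at hy
        rw [hy]
        have := w.2.2 (g * x * g⁻¹) rfl
        calc x * (g⁻¹ * (w : G) * g) = g⁻¹ * ((g * x * g⁻¹) * (w : G)) * g := by group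
          _ = g⁻¹ * ((w : G) * (g * x * g⁻¹)) * g := by rw [this]
          _ = _ := by group⟩
      map_one' := Subtype.ext (by simp)
      map_mul' := fun a b => Subtype.ext (show g⁻¹ * ((a : G) * (b : G)) * g = g⁻¹ * (a : G) * g * (g⁻¹ * (b : G) * g) by group) }
  exact isCyclic_of_injective f fun a b e => Subtype.ext (mul_left_cancel (mul_right_cancel (show g⁻¹ * (a : G) * g = g⁻¹ * (b : G) * g from congrArg Subtype.val e)))

end Setting

end CfsgLib.BG.PLengthHall
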